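import Mathlib.RingTheory.Support
import Mathlib.RingTheory.Ideal.Quotient.Noetherian
import Mathlib.Algebra.Module.Torsion.Basic
import Mathlib.LinearAlgebra.Dual.Lemmas
import Mathlib.RingTheory.LocalRing.Module
import Mathlib.RingTheory.HopkinsLevitzki
import Mathlib.RingTheory.Spectrum.Prime.Noetherian
import Mathlib.Topology.NoetherianSpace
import Mathlib.RingTheory.Artinian.Module
import Mathlib.RingTheory.Artinian.Ring
import Mathlib.RingTheory.Ideal.MinimalPrime.Noetherian
import Mathlib.RingTheory.Ideal.MinimalPrime.Localization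
import Mathlib.RingTheory.Nakayama
import Mathlib.RingTheory.LocalRing.ResidueField.Ideal
import Mathlib.RingTheory.Spectrum.Prime.Topology
import Mathlib.Algebra.Module.LocalizedModule.Submodule
import Mathlib.RingTheory.Localization.Submodule
import Mathlib.LinearAlgebra.Basis.VectorSpace
import Mathlib.RingTheory.LocalProperties.Basic

/-!
# Iterated equalizers of a finite injective algebra
-/

universe u

open TensorProduct

namespace GrothLib.CAlgMisc

/-- An algebra over a field in which every element is central in the sense `d ⊗ 1 = 1 ⊗ d` is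
trivial. -/
theorem mem_span_one_of_tmul_eq {κ D : Type*} [Field κ] [CommRing D] [Algebra κ D] {d : D}
    (h : d ⊗ₜ[κ] (1 : D) = (1 : D) ⊗ₜ[κ] d) : d ∈ Submodule.span κ {(1 : D)} := by
  by_contra hd
  obtain ⟨f, hfd, hf⟩ := Submodule.exists_dual_map_eq_bot_of_notMem hd inferInstance
  have hf1 : f 1 = 0 := by
    have : f 1 ∈ (Submodule.span κ {(1 : D)}).map f :=
      ⟨1, Submodule.mem_span_singleton_self _, rfl⟩
    rwa [hf, Submodule.mem_bot] at this
  have h10 : (1 : D) ≠ 0 := fun e => hd (by
    rw [← one_mul d, e, zero_mul]; exact Submodule.zero_mem _)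
  obtain ⟨g, hg1, -⟩ := Submodule.exists_dual_map_eq_bot_of_notMem
    (p := (⊥ : Submodule κ D)) (x := (1 : D)) (by simpa using h10) inferInstance
  have := congrArg (TensorProduct.lift ((LinearMap.mul κ κ).compl₁₂ f g)) h
  simp only [TensorProduct.lift.tmul, LinearMap.compl₁₂_apply, LinearMap.mul_apply', hf1,
    zero_mul] at this
  exact mul_ne_zero hfd hg1 this

variable {A B : Type u} [CommRing A] [CommRing B] [Algebra A B]

/-- If every element of a finite algebra `C` equalizes after multiplying by something outside `p`,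
then `C` is `A` near `p`. -/
theorem exists_smul_mem_range_of_equalizes {C : Type u} [CommRing C] [Algebra A C] [Module.Finite A C]
    (p : Ideal A) [p.IsPrime]
    (h : ∀ b : C, ∃ s : A, s ∉ p ∧ (s • b) ⊗ₜ[A] (1 : C) = (1 : C) ⊗ₜ[A] (s • b)) (b : C) :
    ∃ s : A, s ∉ p ∧ s • b ∈ Submodule.span A {(1 : C)} := by
  set κ := p.ResidueField
  set Q := C ⧸ Submodule.span A {(1 : C)}
  have hall : ∀ d : κ ⊗[A] C, d ∈ Submodule.span κ {(1 : κ ⊗[A] C)} := by
    intro d
    induction d using TensorProduct.induction_on with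
    | zero => exact Submodule.zero_mem _
    | add x y hx hy => exact Submodule.add_mem _ hx hy
    | tmul a c =>
      have e : a ⊗ₜ[A] c = a • ((1 : κ) ⊗ₜ[A] c) := by rw [smul_tmul', smul_eq_mul, mul_one]
      rw [e]
      refine Submodule.smul_mem _ a (mem_span_one_of_tmul_eq ?_)
      obtain ⟨s, hs, hsc⟩ := h c
      let φ : C →ₐ[A] κ ⊗[A] C := Algebra.TensorProduct.includeRight
      let Φ : C ⊗[A] C →ₗ[A] (κ ⊗[A] C) ⊗[κ] (κ ⊗[A] C) :=
        TensorProduct.lift (LinearMap.mk₂ A (fun x y => φ x ⊗ₜ[κ] φ y)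
          (fun x x' y => by simp [add_tmul]) (fun r x y => by simp [← smul_tmul'])
          (fun x y y' => by simp [tmul_add]) (fun r x y => by simp [tmul_smul]))
      have h2 := congrArg Φ hsc
      simp only [Φ, TensorProduct.lift.tmul, LinearMap.mk₂_apply, map_smul, map_one,
        ← smul_tmul', tmul_smul] at h2
      have hu : algebraMap A κ s ≠ 0 := fun e0 => hs (Ideal.algebraMap_residueField_eq_zero.1 e0)
      rw [← algebraMap_smul κ s, ← algebraMap_smul κ s (((1 : κ ⊗[A] C)) ⊗ₜ[κ] φ c)] at h2
      exact smul_right_injective _ hu h2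
  have hQ : Subsingleton (κ ⊗[A] Q) := by
    refine subsingleton_of_forall_eq 0 fun x => ?_
    obtain ⟨y, rfl⟩ := LinearMap.lTensor_surjective κ
      (Submodule.span A {(1 : C)}).mkQ_surjective x
    obtain ⟨a, ha⟩ := Submodule.mem_span_singleton.1 (hall y)
    rw [← ha, Algebra.TensorProduct.one_def, smul_tmul', LinearMap.lTensor_tmul,
      Submodule.mkQ_apply, (Submodule.Quotient.mk_eq_zero _).2 (Submodule.mem_span_singleton_self _),
      tmul_zero]
  have hsupp : (⟨p, inferInstance⟩ : PrimeSpectrum A) ∉ Module.support A Q := by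
    rw [Module.mem_support_iff_nontrivial_residueField_tensorProduct]
    exact not_nontrivial_iff_subsingleton.2 hQ
  rw [Module.notMem_support_iff'] at hsupp
  obtain ⟨s, hs, hsb⟩ := hsupp (Submodule.Quotient.mk b)
  exact ⟨s, hs, (Submodule.Quotient.mk_eq_zero _).1 hsb⟩

/-- A descending sequence of submodules of a finite module stabilizes near a minimal prime of the
annihilator. -/
theorem exists_localized_stable [IsNoetherianRing A] {M : Type u} [AddCommGroup M] [Module A M]
    [Module.Finite A M] (N : ℕ → Submodule A M) (hN : Antitone N) (p : Ideal A) [p.IsPrime]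
    (hp : p ∈ (Module.annihilator A M).minimalPrimes) :
    ∃ i, ∀ x ∈ N i, ∃ s : A, s ∉ p ∧ s • x ∈ N (i + 1) := by
  let Ap := Localization.AtPrime p
  let Mp := LocalizedModule p.primeCompl M
  set J := (Module.annihilator A M).map (algebraMap A Ap) with hJdef
  have htor : Module.IsTorsionBySet Ap Mp J := by
    rw [Module.isTorsionBySet_iff_subset_annihilator, SetLike.coe_subset_coe,
      Ideal.map_le_iff_le_comap]
    intro a ha
    rw [Ideal.mem_comap, Module.mem_annihilator]
    intro x
    induction x using LocalizedModule.induction_on with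
    | _ m s =>
      rw [algebraMap_smul, LocalizedModule.smul'_mk, Module.mem_annihilator.1 ha m,
        LocalizedModule.zero_mk]
  have : IsNoetherianRing Ap := IsLocalization.isNoetherianRing p.primeCompl Ap inferInstance
  have : IsArtinianRing (Ap ⧸ J) := by
    rw [isArtinianRing_iff_krullDimLE_zero, Ring.krullDimLE_zero_iff]
    intro P hP
    have hcomap : (P.comap (Ideal.Quotient.mk J)) = IsLocalRing.maximalIdeal Ap := by
      set P' := P.comap (Ideal.Quotient.mk J)
      have hle : Module.annihilator A M ≤ P'.comap (algebraMap A Ap) := fun a ha => by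
        rw [Ideal.mem_comap, Ideal.mem_comap,
          Ideal.Quotient.eq_zero_iff_mem.2 (Ideal.mem_map_of_mem _ ha)]
        exact P.zero_mem
      have hle' : P'.comap (algebraMap A Ap) ≤ p := by
        exact (Ideal.comap_mono (IsLocalRing.le_maximalIdeal (Ideal.IsPrime.ne_top inferInstance))).trans_eq
          (IsLocalization.AtPrime.comap_maximalIdeal Ap p)
      have heq : P'.comap (algebraMap A Ap) = p :=
        le_antisymm hle' (hp.2 ⟨inferInstance, hle⟩ hle')
      rw [← IsLocalization.map_comap p.primeCompl Ap P', show Ideal.under A P' = p from heq,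
        Localization.AtPrime.map_eq_maximalIdeal]
    refine Ideal.Quotient.maximal_of_isField _ ?_
    have : (P.comap (Ideal.Quotient.mk J)).IsMaximal := hcomap ▸ IsLocalRing.maximalIdeal.isMaximal Ap
    have hPmax : P.IsMaximal := by
      rw [← Ideal.map_comap_of_surjective (Ideal.Quotient.mk J) Ideal.Quotient.mk_surjective P]
      refine (Ideal.map_eq_top_or_isMaximal_of_surjective _ Ideal.Quotient.mk_surjective this).resolve_left ?_
      rw [Ideal.map_comap_of_surjective (Ideal.Quotient.mk J) Ideal.Quotient.mk_surjective P]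
      exact hP.ne_top
    exact (Ideal.Quotient.maximal_ideal_iff_isField_quotient P).1 hPmax
  letI := htor.module
  have : IsScalarTower Ap (Ap ⧸ J) Mp := htor.isScalarTower
  have : Module.Finite (Ap ⧸ J) Mp := Module.Finite.of_restrictScalars_finite Ap _ _
  have : IsArtinian Ap Mp :=
    isArtinian_of_surjective_algebraMap (R := Ap ⧸ J) (S := Ap) (M := Mp) Ideal.Quotient.mk_surjective
  obtain ⟨i, hi⟩ := IsArtinian.monotone_stabilizes (R := Ap) (M := Mp)
    ⟨fun i => OrderDual.toDual ((N i).localized p.primeCompl), fun a b hab => by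
      intro x hx
      obtain ⟨m, hm, s, rfl⟩ := hx
      exact ⟨m, hN hab hm, s, rfl⟩⟩
  refine ⟨i, fun x hx => ?_⟩
  have h1 : (N i).localized p.primeCompl = (N (i + 1)).localized p.primeCompl := hi (i + 1) (by omega)
  have hmem : LocalizedModule.mkLinearMap p.primeCompl M x ∈ (N i).localized p.primeCompl :=
    ⟨x, hx, 1, by simp⟩
  rw [h1] at hmem
  obtain ⟨m, hm, s, hms⟩ := hmem
  rw [IsLocalizedModule.mk'_eq_iff, Submonoid.smul_def, ← map_smul, IsLocalizedModule.eq_iff_exists p.primeCompl] at hms
  obtain ⟨c, hc⟩ := hms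
  refine ⟨c * s, p.primeCompl.mul_mem c.2 s.2, ?_⟩
  rw [mul_smul]
  have : (c : A) • (s : A) • x = (c : A) • m := hc.symm
  rw [this]
  exact Submodule.smul_mem _ _ hm

theorem iterated_equalizer_eq_bot [IsNoetherianRing A] [Module.Finite A B]
    (C : ℕ → Subalgebra A B) (hstep : ∀ (i : ℕ) (b : B), b ∈ C (i + 1) ↔ ∃ hb : b ∈ C i,
      ((⟨b, hb⟩ : C i) ⊗ₜ[A] (1 : C i) : C i ⊗[A] C i) = (1 : C i) ⊗ₜ[A] (⟨b, hb⟩ : C i)) :
    ∃ m : ℕ, C m = ⊥ := by
  have hanti : Antitone C := antitone_nat_of_succ_le fun i b hb => ((hstep i b).1 hb).1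
  let q : B →ₗ[A] B ⧸ Submodule.span A {(1 : B)} := Submodule.mkQ _
  let N : ℕ → Submodule A (B ⧸ Submodule.span A {(1 : B)}) := fun i =>
    (Subalgebra.toSubmodule (C i)).map q
  have hNanti : Antitone N := fun a b hab => Submodule.map_mono (hanti hab)
  have hsuppanti : ∀ {a b}, a ≤ b → Module.support A (N b) ⊆ Module.support A (N a) := fun hab =>
    Module.support_subset_of_injective (Submodule.inclusion (hNanti hab)) (Submodule.inclusion_injective _)
  have hclosed : ∀ i, IsClosed (Module.support A (N i)) := fun i => by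
    rw [Module.support_eq_zeroLocus]; exact PrimeSpectrum.isClosed_zeroLocus _
  let Z : ℕ →o (TopologicalSpace.Closeds (PrimeSpectrum A))ᵒᵈ :=
    ⟨fun i => OrderDual.toDual ⟨Module.support A (N i), hclosed i⟩, fun a b hab => hsuppanti hab⟩
  obtain ⟨i₀, hi₀⟩ := WellFoundedGT.monotone_chain_condition Z
  refine ⟨i₀, eq_bot_iff.2 fun b hb => ?_⟩
  have hzero : Module.support A (N i₀) = ∅ := by
    by_contra hne
    obtain ⟨P, hP⟩ := Set.nonempty_iff_ne_empty.2 hne
    rw [Module.mem_support_iff_of_finite] at hP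
    obtain ⟨p, hp, -⟩ := Ideal.exists_minimalPrimes_le hP
    have : p.IsPrime := hp.1.1
    obtain ⟨i, hi⟩ := exists_localized_stable
      (fun j => (N (i₀ + j)).comap (N i₀).subtype)
      (fun a b hab => Submodule.comap_mono (hNanti (by omega))) p hp
    have hmemp : (⟨p, inferInstance⟩ : PrimeSpectrum A) ∈ Module.support A (N (i₀ + i)) := by
      have := hi₀ (i₀ + i) (Nat.le_add_right _ _)
      have h2 : Module.support A (N i₀) = Module.support A (N (i₀ + i)) := by
        have h1 := congrArg OrderDual.ofDual this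
        exact congrArg TopologicalSpace.Closeds.carrier h1
      rw [← h2, Module.mem_support_iff_of_finite]
      exact hp.1.2
    rw [Module.mem_support_iff'] at hmemp
    obtain ⟨⟨x, hx⟩, hxne⟩ := hmemp
    obtain ⟨c, hc, rfl⟩ := hx
    have heq : ∀ y : C (i₀ + i), ∃ s : A, s ∉ p ∧
        (s • y) ⊗ₜ[A] (1 : C (i₀ + i)) = (1 : C (i₀ + i)) ⊗ₜ[A] (s • y) := by
      intro y
      obtain ⟨s, hs, hsy⟩ := hi ⟨q y, hNanti (Nat.le_add_right _ _) ⟨_, y.2, rfl⟩⟩ ⟨_, y.2, rfl⟩
      obtain ⟨z, hz, hzy⟩ := hsy
      have hdiff : (s • (y : B)) - z ∈ Submodule.span A {(1 : B)} := by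
        rw [← Submodule.Quotient.eq]
        exact hzy.symm
      obtain ⟨a, ha⟩ := Submodule.mem_span_singleton.1 hdiff
      have hsy' : s • (y : B) ∈ C (i₀ + (i + 1)) := by
        rw [← sub_add_cancel (s • (y : B)) z, ← ha]
        exact add_mem ((C _).smul_mem (one_mem _) a) hz
      obtain ⟨_, he⟩ := (hstep (i₀ + i) _).1 hsy'
      exact ⟨s, hs, he⟩
    have : Module.Finite A (C (i₀ + i)) :=
      Module.Finite.iff_fg.2 (IsNoetherian.noetherian (Subalgebra.toSubmodule (C (i₀ + i))))
    obtain ⟨s, hs, hsc⟩ := exists_smul_mem_range_of_equalizes p heq ⟨c, hc⟩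
    obtain ⟨a, ha⟩ := Submodule.mem_span_singleton.1 hsc
    refine hxne s hs (Subtype.ext ?_)
    show s • q c = 0
    rw [← map_smul, Submodule.mkQ_apply, Submodule.Quotient.mk_eq_zero]
    exact Submodule.mem_span_singleton.2 ⟨a, congrArg Subtype.val ha⟩
  rw [Module.support_eq_empty_iff] at hzero
  have hbq : q b = 0 :=
    congrArg Subtype.val (Subsingleton.elim (⟨q b, b, hb, rfl⟩ : N i₀) 0)
  obtain ⟨a, ha⟩ := Submodule.mem_span_singleton.1 ((Submodule.Quotient.mk_eq_zero _).1 hbq)
  rw [← ha]
  exact (⊥ : Subalgebra A B).smul_mem (one_mem _) a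

end GrothLib.CAlgMisc
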