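import Groth.Agent.Lib.Flatness.Criterion
import Mathlib.RingTheory.Smooth.Fiber
import Mathlib.RingTheory.Smooth.Flat
import Mathlib.RingTheory.Kaehler.TensorProduct
import Mathlib.RingTheory.FinitePresentation
import Mathlib.RingTheory.Polynomial.Basic
import Mathlib.RingTheory.Flat.Stability
import Mathlib.LinearAlgebra.TensorProduct.Quotient
import Mathlib.LinearAlgebra.TensorProduct.RightExactness

/-! Étaleness lifts along square-zero thickenings when the kernel is the base changed one. -/

universe u

open TensorProduct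

namespace GrothLib.CAlgMisc

section

variable {A' : Type u} [CommRing A'] {A : Type u} [CommRing A] [Algebra A' A]
  (hA : Function.Surjective (algebraMap A' A))
  {B' : Type u} [CommRing B'] [Algebra A' B'] {B : Type u} [CommRing B] [Algebra B' B]
  [Algebra A B] [Algebra A' B] [IsScalarTower A' A B] [IsScalarTower A' B' B]
  (hB : Function.Surjective (algebraMap B' B))
  (hJI : RingHom.ker (algebraMap B' B) = (RingHom.ker (algebraMap A' A)).map (algebraMap A' B'))

include hA hB hJI

attribute [local instance] Algebra.TensorProduct.rightAlgebra in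

theorem isPushout_of_ker_eq_map : Algebra.IsPushout A' A B' B := by
  let φ : A ⊗[A'] B' →ₐ[A] B :=
    Algebra.TensorProduct.lift (Algebra.ofId A B) (IsScalarTower.toAlgHom A' B' B) fun _ _ => mul_comm _ _
  let j : B' →ₐ[A'] A ⊗[A'] B' := Algebra.TensorProduct.includeRight
  have hj : Function.Surjective j := by
    intro x
    induction x with
    | zero => exact ⟨0, map_zero _⟩
    | add a b ha hb =>
      obtain ⟨a, rfl⟩ := ha
      obtain ⟨b, rfl⟩ := hb
      exact ⟨a + b, map_add _ _ _⟩
    | tmul a b =>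
      obtain ⟨a, rfl⟩ := hA a
      exact ⟨a • b, by
        simp [j, TensorProduct.tmul_smul, TensorProduct.smul_tmul', Algebra.smul_def a (1 : A)]⟩
  have hker : RingHom.ker (algebraMap B' B) ≤ RingHom.ker j.toRingHom := by
    rw [hJI, Ideal.map_le_iff_le_comap]
    intro i hi
    show j (algebraMap A' B' i) = 0
    rw [AlgHom.commutes, Algebra.TensorProduct.algebraMap_apply, RingHom.mem_ker.mp hi, zero_tmul]
  have hφj : ∀ b, φ (j b) = algebraMap B' B b := fun b => by simp [φ, j]
  have hbij : Function.Bijective φ := by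
    refine ⟨(injective_iff_map_eq_zero φ).mpr fun x hx => ?_, fun y => ?_⟩
    · obtain ⟨b, rfl⟩ := hj x
      rw [hφj] at hx
      exact hker hx
    · obtain ⟨b, rfl⟩ := hB y
      exact ⟨j b, hφj b⟩
  exact Algebra.IsPushout.of_equiv (AlgEquiv.ofBijective φ hbij) (by ext b; exact hφj b)

omit hA in
theorem formallyUnramified_of_lift [Algebra.IsPushout A' A B' B] [Algebra.FormallyUnramified A B]
    (hJ : RingHom.ker (algebraMap B' B) ^ 2 = ⊥) : Algebra.FormallyUnramified A' B' := by
  have h0 : Subsingleton (B ⊗[B'] Ω[B'⁄A']) :=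
    (KaehlerDifferential.tensorKaehlerEquiv A' A B' B).toEquiv.subsingleton
  let J := RingHom.ker (algebraMap B' B)
  let e : (B' ⧸ J) ≃ₐ[B'] B := Ideal.quotientKerAlgEquivOfSurjective (f := Algebra.ofId B' B) hB
  have : Subsingleton ((B' ⧸ J) ⊗[B'] Ω[B'⁄A']) :=
    (TensorProduct.congr e.toLinearEquiv (LinearEquiv.refl B' _)).toEquiv.subsingleton
  have hsub : Subsingleton (Ω[B'⁄A'] ⧸ (J • ⊤ : Submodule B' Ω[B'⁄A'])) :=
    (TensorProduct.quotTensorEquivQuotSMul _ J).symm.toEquiv.subsingleton
  rw [Submodule.Quotient.subsingleton_iff] at hsub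
  refine ⟨?_⟩
  refine subsingleton_of_forall_eq 0 fun x => ?_
  have h2 : (J ^ 2) • (⊤ : Submodule B' Ω[B'⁄A']) = ⊤ := by
    rw [pow_two, Submodule.mul_smul, hsub, hsub]
  have hx : x ∈ (J ^ 2) • (⊤ : Submodule B' Ω[B'⁄A']) := by rw [h2]; exact Submodule.mem_top
  rw [hJ, Submodule.bot_smul, Submodule.mem_bot] at hx
  exact hx

omit hJI in
theorem finitePresentation_of_lift (hI : RingHom.ker (algebraMap A' A) ^ 2 = ⊥)
    (hJI : RingHom.ker (algebraMap B' B) = (RingHom.ker (algebraMap A' A)).map (algebraMap A' B'))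
    [Algebra.FinitePresentation A B]
    (hinj : Function.Injective ((RingHom.ker (algebraMap A' A)).subtype.baseChange B')) :
    Algebra.FinitePresentation A' B' := by
  classical
  set I := RingHom.ker (algebraMap A' A) with hIdef
  obtain ⟨n, g, hg⟩ := Algebra.FiniteType.iff_quotient_mvPolynomial''.mp
    (inferInstance : Algebra.FiniteType A B)
  choose t ht using fun i => hB (g (MvPolynomial.X i))
  let P := MvPolynomial (Fin n) A'
  let π : P →ₐ[A'] B' := MvPolynomial.aeval t
  let r : P →+* MvPolynomial (Fin n) A := MvPolynomial.map (algebraMap A' A)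
  have hr : Function.Surjective r := MvPolynomial.map_surjective _ hA
  have hcomm : ∀ p, g (r p) = algebraMap B' B (π p) := by
    intro p
    induction p using MvPolynomial.induction_on with
    | C a =>
      rw [show r (MvPolynomial.C a) = MvPolynomial.C (algebraMap A' A a) from MvPolynomial.map_C _ _,
        show π (MvPolynomial.C a) = algebraMap A' B' a from MvPolynomial.aeval_C _ _,
        ← MvPolynomial.algebraMap_eq, AlgHom.commutes, ← IsScalarTower.algebraMap_apply,
        ← IsScalarTower.algebraMap_apply]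
    | add p q hp hq => simp [map_add, hp, hq]
    | mul_X p i hp =>
      rw [map_mul, map_mul, map_mul, map_mul, hp,
        show r (MvPolynomial.X i) = MvPolynomial.X i from MvPolynomial.map_X _ _,
        show π (MvPolynomial.X i) = t i from MvPolynomial.aeval_X _ _, ht]
  have hrker : RingHom.ker r = I.map (algebraMap A' P) := MvPolynomial.ker_map _
  have hJmem : ∀ b, algebraMap B' B b = 0 → b ∈ (I.map (algebraMap A' B')) := fun b hb => by
    rw [← hJI]; exact hb
  -- surjectivity
  have hπ : Function.Surjective π := by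
    let S : Submodule A' B' := LinearMap.range π.toLinearMap
    have key : ∀ b : B', b ∈ S ⊔ (I • ⊤ : Submodule A' B') := by
      intro b
      obtain ⟨q, hq⟩ := hg (algebraMap B' B b)
      obtain ⟨p, rfl⟩ := hr q
      refine Submodule.mem_sup.mpr ⟨π p, ⟨p, rfl⟩, b - π p, ?_, by abel⟩
      rw [Ideal.smul_top_eq_map]
      exact hJmem _ (by rw [map_sub, ← hcomm, hq, sub_self])
    have h1 : (⊤ : Submodule A' B') = S ⊔ I • ⊤ := (eq_top_iff.mpr fun b _ => key b).symm
    have h2 : (⊤ : Submodule A' B') ≤ S := by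
      calc (⊤ : Submodule A' B') = S ⊔ I • (S ⊔ I • ⊤) := by rw [← h1]; exact h1
        _ ≤ S := by
          rw [Submodule.smul_sup, ← Submodule.mul_smul, ← pow_two, hI, Submodule.bot_smul,
            sup_bot_eq]
          exact sup_le le_rfl Submodule.smul_le_right
    intro b
    exact h2 (Submodule.mem_top (x := b))
  let K : Ideal P := RingHom.ker π
  -- `IP ∩ K = IK`
  have hIK : ∀ y ∈ I.map (algebraMap A' P), y ∈ K → y ∈ I.map (algebraMap A' P) * K := by
    intro y hy hyK
    let μP : I ⊗[A'] P →ₗ[A'] P := TensorProduct.lift ((LinearMap.lsmul A' P).comp I.subtype)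
    have hy' : y ∈ LinearMap.range μP := by
      have : y ∈ (I • ⊤ : Submodule A' P) := by rw [Ideal.smul_top_eq_map]; exact hy
      refine Submodule.smul_induction_on this (fun i hi p _ => ⟨⟨i, hi⟩ ⊗ₜ p, by simp [μP]⟩)
        fun a b ha hb => add_mem ha hb
    obtain ⟨z, rfl⟩ := hy'
    let μB : I ⊗[A'] B' →ₗ[A'] B' := TensorProduct.lift ((LinearMap.lsmul A' B').comp I.subtype)
    have hnat : ∀ z, π (μP z) = μB (π.toLinearMap.lTensor I z) := by
      intro z
      induction z with
      | zero => simp
      | add a b ha hb => simp only [map_add, ha, hb]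
      | tmul i p => simp [μP, μB]
    have hμB : Function.Injective μB := by
      have : ⇑μB = (TensorProduct.rid A' B') ∘ (I.subtype.baseChange B') ∘ (TensorProduct.comm A' I B') := by
        funext w
        induction w with
        | zero => simp
        | add a b ha hb => simp only [map_add, Function.comp_apply] at ha hb ⊢; rw [ha, hb]
        | tmul i b => simp [μB]
      rw [this]
      exact (TensorProduct.rid A' B').injective.comp (hinj.comp (TensorProduct.comm A' I B').injective)
    have hz : π.toLinearMap.lTensor I z = 0 := hμB (by rw [← hnat, map_zero]; exact hyK)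
    obtain ⟨w, hw⟩ := (lTensor_exact I (LinearMap.exact_subtype_ker_map π.toLinearMap) hπ z).mp hz
    rw [← hw]
    clear hw hz hyK
    induction w with
    | zero => simp
    | add a b ha hb => rw [map_add, map_add]; exact add_mem ha hb
    | tmul i k =>
      have : μP ((LinearMap.ker π.toLinearMap).subtype.lTensor I (i ⊗ₜ k)) =
          algebraMap A' P (i : A') * (k : P) := by simp [μP, Algebra.smul_def]
      rw [this]
      exact Ideal.mul_mem_mul (Ideal.mem_map_of_mem _ i.2) k.2
  -- finite generation of `K`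
  obtain ⟨s, hs⟩ := Algebra.FinitePresentation.ker_fG_of_surjective g hg
  have hlift : ∀ q ∈ s, ∃ k ∈ K, r k = q := by
    intro q hq
    obtain ⟨p, rfl⟩ := hr q
    have hgp : g (r p) = 0 := hs.le (Ideal.subset_span hq)
    have hmem : π p ∈ (I.map (algebraMap A' P)).map π.toRingHom := by
      rw [Ideal.map_map, show π.toRingHom.comp (algebraMap A' P) = algebraMap A' B' from π.comp_algebraMap]
      exact hJmem _ (by rw [← hcomm]; exact hgp)
    obtain ⟨i, hi, hip⟩ := (Ideal.mem_map_iff_of_surjective π.toRingHom hπ).mp hmem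
    refine ⟨p - i, ?_, ?_⟩
    · show π (p - i) = 0
      rw [map_sub, show π i = π p from hip, sub_self]
    · rw [map_sub, show r i = 0 from (hrker.ge hi), sub_zero]
  choose k hk hkr using hlift
  let K0 : Ideal P := Ideal.span (Set.range fun q : s => k q.1 q.2)
  have hK0fg : K0.FG := Submodule.fg_span (Set.finite_range _)
  have hK0 : K0 ≤ K := Ideal.span_le.mpr (by rintro _ ⟨q, rfl⟩; exact hk q.1 q.2)
  have hstep : K ≤ K0 ⊔ I.map (algebraMap A' P) * K := by
    intro x hx
    have h1 : r x ∈ K0.map r := by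
      have hgx : r x ∈ RingHom.ker g := by
        show g (r x) = 0
        rw [hcomm, show π x = 0 from hx, map_zero]
      refine Ideal.span_le.mpr ?_ (hs.ge hgx)
      intro q hq
      exact hkr q hq ▸ Ideal.mem_map_of_mem r (Ideal.subset_span ⟨⟨q, hq⟩, rfl⟩)
    obtain ⟨y, hy, hyx⟩ := (Ideal.mem_map_iff_of_surjective r hr).mp h1
    refine Submodule.mem_sup.mpr ⟨y, hy, x - y, hIK _ ?_ (sub_mem hx (hK0 hy)), by abel⟩
    rw [← hrker, RingHom.mem_ker, map_sub, hyx, sub_self]
  have hKeq : K = K0 := by
    refine le_antisymm (hstep.trans (sup_le le_rfl ?_)) hK0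
    calc I.map (algebraMap A' P) * K ≤ I.map (algebraMap A' P) * (K0 ⊔ I.map (algebraMap A' P) * K) :=
          Ideal.mul_mono le_rfl hstep
      _ ≤ K0 := by
          rw [Ideal.mul_sup, ← mul_assoc, ← Ideal.map_mul, ← pow_two, hI, Ideal.map_bot,
            Ideal.bot_mul, sup_bot_eq]
          exact Ideal.mul_le_right
  exact Algebra.FinitePresentation.of_surjective hπ (show K.FG from hKeq ▸ hK0fg)

theorem etale_of_lift (hI : RingHom.ker (algebraMap A' A) ^ 2 = ⊥)
    (hJ : RingHom.ker (algebraMap B' B) ^ 2 = ⊥) [Algebra.Etale A B]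
    (hinj : Function.Injective ((RingHom.ker (algebraMap A' A)).subtype.baseChange B')) :
    Algebra.Etale A' B' := by
  have := isPushout_of_ker_eq_map hA hB hJI
  have := formallyUnramified_of_lift hB hJI hJ
  have := finitePresentation_of_lift hA hB hI hJI hinj
  set I := RingHom.ker (algebraMap A' A) with hIdef
  let e0 : (A' ⧸ I) ≃ₐ[A'] A := Ideal.quotientKerAlgEquivOfSurjective (f := Algebra.ofId A' A) hA
  letI : Algebra (A' ⧸ I) A := e0.toAlgHom.toRingHom.toAlgebra
  haveI : IsScalarTower A' (A' ⧸ I) A := IsScalarTower.of_algebraMap_eq fun r => (e0.commutes r).symm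
  let el : (A' ⧸ I) ≃ₗ[A' ⧸ I] A :=
    LinearEquiv.ofBijective (Algebra.linearMap (A' ⧸ I) A) e0.bijective
  haveI : Module.Flat (A' ⧸ I) A := Module.Flat.of_linearEquiv el.symm
  let N := (A' ⧸ I) ⊗[A'] B'
  haveI : Module.Flat A (A ⊗[A'] B') := Module.Flat.of_linearEquiv
    (Algebra.IsPushout.equiv A' A B' B).toLinearEquiv
  haveI : Module.Flat A (A ⊗[A' ⧸ I] N) :=
    Module.Flat.of_linearEquiv (AlgebraTensorModule.cancelBaseChange A' (A' ⧸ I) A A B')
  haveI : Module.Flat (A' ⧸ I) (A ⊗[A' ⧸ I] N) := Module.Flat.trans (A' ⧸ I) A _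
  have h2 : Module.Flat (A' ⧸ I) N := Module.Flat.of_linearEquiv
    ((TensorProduct.lid (A' ⧸ I) N).symm ≪≫ₗ TensorProduct.congr el (LinearEquiv.refl _ _))
  have : Module.Flat A' B' := GrothLib.Flatness.flat_of_isNilpotent I
    ⟨2, by rw [hI, Ideal.zero_eq_bot]⟩ hinj h2
  exact Algebra.Etale.of_formallyUnramified_of_flat

end

end GrothLib.CAlgMisc
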