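import Groth.Agent.Lib.Flatness.Criterion
import Groth.Agent.Lib.Flatness.Fibre
import Mathlib.RingTheory.Flat.Stability
import Mathlib.RingTheory.LocalRing.ResidueField.Basic
import Mathlib.RingTheory.IsTensorProduct
import Mathlib.RingTheory.TensorProduct.Finite

/-! Flatness of base changes along squares of local rings. -/

universe u

open TensorProduct IsLocalRing

namespace GrothLib.CAlgMisc

theorem flat_tensor_left (R S S' M : Type u) [CommRing R] [CommRing S] [CommRing S'] [Algebra R S]
    [Algebra S S'] [Algebra R S'] [IsScalarTower R S S'] [AddCommGroup M] [Module S M] [Module R M]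
    [IsScalarTower R S M] [Module.Flat S S'] [Module.Flat R M] : Module.Flat R (S' ⊗[S] M) := by
  rw [Module.Flat.iff_lTensor_preserves_injective_linearMap]
  intro N N' _ _ _ _ f hf
  let e := AlgebraTensorModule.assoc R S S S' M N
  let e' := AlgebraTensorModule.assoc R S S S' M N'
  let g : M ⊗[R] N →ₗ[S] M ⊗[R] N' := AlgebraTensorModule.lTensor S M f
  have hg : Function.Injective g := Module.Flat.lTensor_preserves_injective_linearMap f hf
  have hg' := Module.Flat.lTensor_preserves_injective_linearMap (M := S') g hg
  have key : ∀ x, e' (f.lTensor (S' ⊗[S] M) x) = g.lTensor S' (e x) := fun x => by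
    induction x with
    | zero => simp
    | add a b ha hb => simp only [map_add, ha, hb]
    | tmul y n =>
      induction y with
      | zero => simp
      | add a b ha hb => simp only [add_tmul, map_add, ha, hb]
      | tmul s m => simp [e, e', g]
  intro a b hab
  apply e.injective
  apply hg'
  rw [← key, ← key, hab]

theorem flat_baseChange_square (R S R' S' : Type u) [CommRing R] [CommRing S] [CommRing R'] [CommRing S']
    [IsLocalRing R] [IsLocalRing R'] [IsLocalRing S']
    [Algebra R S] [Algebra R R'] [Algebra S S'] [Algebra R' S'] [Algebra R S']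
    [IsScalarTower R S S'] [IsScalarTower R R' S'] [IsLocalHom (algebraMap R' S')]
    [Module.Flat S S'] [IsNoetherianRing R'] [IsNoetherianRing S']
    (hm : (maximalIdeal R).map (algebraMap R R') = maximalIdeal R')
    (M : Type u) [AddCommGroup M] [Module S M] [Module R M] [IsScalarTower R S M] [Module.Finite S M]
    [Module.Flat R M]
    (M' : Type u) [AddCommGroup M'] [Module S' M'] [Module S M'] [IsScalarTower S S' M'] [Module R' M']
    [IsScalarTower R' S' M'] (j : M →ₗ[S] M') (hj : IsBaseChange S' j) :
    Module.Flat R' M' := by
  letI : Module R M' := Module.compHom M' (algebraMap R S')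
  haveI : IsScalarTower R S' M' := IsScalarTower.of_algebraMap_smul fun _ _ => rfl
  haveI : IsScalarTower R R' M' := IsScalarTower.of_algebraMap_smul fun r x => by
    rw [← algebraMap_smul S' (algebraMap R R' r) x, ← IsScalarTower.algebraMap_apply]
    rfl
  haveI : Module.Finite S' M' := Module.Finite.equiv hj.equiv
  haveI := flat_tensor_left R S S' M
  haveI : Module.Flat R M' := Module.Flat.of_linearEquiv (hj.equiv.restrictScalars R).symm
  letI := Ideal.Quotient.field (maximalIdeal R')
  refine GrothLib.Flatness.flat_of_localCriterion (S := S') (maximalIdeal R')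
    GrothLib.Flatness.map_maximalIdeal_le_jacobson ?_ ?_
  · rw [← hm]
    exact GrothLib.Flatness.lTensor_map_injective _
  · exact Module.Flat.of_free

end GrothLib.CAlgMisc
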