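import Mathlib.RingTheory.GradedAlgebra.Basic
import Mathlib.RingTheory.Polynomial.IsIntegral

/-! Homogeneous components of integral elements are integral. -/

namespace GrothLib.CAlgMisc

universe u

open Polynomial DirectSum

attribute [local instance] Polynomial.algebra

variable {R : Type u} [CommRing R] (ℛ : ℕ → AddSubgroup R) [GradedRing ℛ]

/-- `r ↦ ∑ rᵢ Xⁱ`. -/
noncomputable def toPoly : R →+* R[X] :=
  (DirectSum.toSemiring (fun i => ((monomial i).toAddMonoidHom.comp (ℛ i).subtype))
    (by
      show monomial 0 (1 : R) = 1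
      simp)
    (fun {i j} a b => by
      show monomial (i + j) ((a : R) * (b : R)) = monomial i (a : R) * monomial j (b : R)
      rw [monomial_mul_monomial])).comp
    (decomposeRingEquiv ℛ).toRingHom

theorem toPoly_of_mem {i : ℕ} {r : R} (hr : r ∈ ℛ i) : toPoly ℛ r = monomial i r := by
  have : decomposeRingEquiv ℛ r = DirectSum.of (fun i => ℛ i) i ⟨r, hr⟩ := decompose_of_mem ℛ hr
  rw [toPoly, RingHom.comp_apply]
  erw [this, DirectSum.toSemiring_of]
  rfl

theorem coeff_toPoly (r : R) (i : ℕ) : (toPoly ℛ r).coeff i = (decompose ℛ r i : ℛ i) := by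
  classical
  induction r using DirectSum.Decomposition.inductionOn ℛ with
  | zero => simp
  | @homogeneous j m =>
    rw [toPoly_of_mem ℛ m.2, coeff_monomial]
    by_cases h : j = i
    · subst h; rw [if_pos rfl, decompose_of_mem_same ℛ m.2]
    · rw [if_neg h, decompose_of_mem_ne ℛ m.2 h]
  | add a b ha hb => simp [ha, hb]

theorem isIntegral_decompose {S : Type u} [CommRing S] [Algebra R S] (𝒮 : ℕ → AddSubgroup S)
    [GradedRing 𝒮] (hmap : ∀ i : ℕ, ∀ r ∈ ℛ i, algebraMap R S r ∈ 𝒮 i) (s : S)
    (hs : IsIntegral R s) (i : ℕ) : IsIntegral R ((decompose 𝒮 s i : 𝒮 i) : S) := by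
  classical
  obtain ⟨p, hp, hps⟩ := hs
  rw [← coeff_toPoly]
  refine IsIntegral.coeff ⟨p.map (toPoly ℛ), hp.map _, ?_⟩ i
  have hcomm : (algebraMap R[X] S[X]).comp (toPoly ℛ) = (toPoly 𝒮).comp (algebraMap R S) := by
    ext r : 1
    induction r using DirectSum.Decomposition.inductionOn ℛ with
    | zero => simp
    | @homogeneous j m =>
      simp only [RingHom.comp_apply, toPoly_of_mem ℛ m.2, toPoly_of_mem 𝒮 (hmap j m m.2),
        Polynomial.algebraMap_def, coe_mapRingHom, map_monomial]
    | add a b ha hb => simp only [map_add, ha, hb]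
  rw [eval₂_map, hcomm, ← hom_eval₂, hps, map_zero]

end GrothLib.CAlgMisc
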