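import Groth.Agent.Lib.DVRDom.KrullAkizuki
import Mathlib.RingTheory.Algebraic.Integral
import Mathlib.LinearAlgebra.Dimension.Free
import Mathlib.RingTheory.Ideal.MinimalPrime.Noetherian

/-!
The general Krull–Akizuki theorem: a ring between a one-dimensional noetherian domain and a finite
extension of its fraction field is noetherian, and its quotient by a nonzero element of the base is
a module of finite length over the base.
-/

namespace GrothLib.KrullAkizuki

open Module

variable {R : Type*} [CommRing R] [IsDomain R] [IsNoetherianRing R] [Ring.DimensionLEOne R]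

lemma length_ideal_quot_smul_le {a : R} (ha : a ≠ 0) (I : Ideal R) :
    Module.length R (I ⧸ LinearMap.range (LinearMap.lsmul R I a)) ≤ Ring.ord R a := by
  refine le_trans (le_of_eq ?_) (DVRDom.length_ideal_map_le ha I)
  rw [← (LinearMap.quotKerEquivRange _).length_eq]
  refine (Submodule.quotEquivOfEq _ _ ?_).length_eq
  ext x
  rw [LinearMap.mem_ker, LinearMap.comp_apply, Submodule.mkQ_apply, Submodule.Quotient.mk_eq_zero]
  constructor
  · rintro ⟨y, rfl⟩
    exact Submodule.smul_mem_pointwise_smul _ a I y.2
  · intro h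
    obtain ⟨y, hy, hxy⟩ := h
    exact ⟨⟨y, hy⟩, Subtype.ext hxy⟩

/-- A torsion-free module of rank `≤ n` has `length (M / aM) ≤ n * ord a`. -/
lemma length_quot_smul_le_of_injective {a : R} (ha : a ≠ 0) (n : ℕ) {M : Type*} [AddCommGroup M]
    [Module R M] (j : M →ₗ[R] (Fin n → R)) (hj : Function.Injective j) :
    Module.length R (M ⧸ LinearMap.range (LinearMap.lsmul R M a)) ≤ n * Ring.ord R a := by
  revert M
  induction n with
  | zero =>
    intro M _ _ j hj
    have : Subsingleton M := ⟨fun x y => hj (Subsingleton.elim _ _)⟩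
    simp [Module.length_eq_zero]
  | succ n ih =>
    intro M _ _ j hj
    let f : M →ₗ[R] R := (LinearMap.proj 0).comp j
    let M' : Submodule R M := LinearMap.ker f
    let j' : M' →ₗ[R] (Fin n → R) := (LinearMap.funLeft R R Fin.succ).comp (j.comp M'.subtype)
    have hj' : Function.Injective j' := by
      intro x y hxy
      refine Subtype.ext (hj ?_)
      funext i
      refine Fin.cases ?_ (fun i => congrFun hxy i) i
      exact (LinearMap.mem_ker.mp x.2).trans (LinearMap.mem_ker.mp y.2).symm
    let I : Ideal R := LinearMap.range f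
    let N := LinearMap.range (LinearMap.lsmul R M a)
    let NI := LinearMap.range (LinearMap.lsmul R I a)
    let N' := LinearMap.range (LinearMap.lsmul R M' a)
    let g : (M ⧸ N) →ₗ[R] (I ⧸ NI) := N.mapQ NI f.rangeRestrict (by
      rintro _ ⟨m, rfl⟩
      exact ⟨f.rangeRestrict m, (map_smul f.rangeRestrict a m).symm⟩)
    have hg : Function.Surjective g := by
      intro z
      obtain ⟨⟨_, m, rfl⟩, rfl⟩ := Submodule.mkQ_surjective _ z
      exact ⟨Submodule.Quotient.mk m, rfl⟩
    let h : (M' ⧸ N') →ₗ[R] (M ⧸ N) := N'.mapQ N M'.subtype (by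
      rintro _ ⟨m, rfl⟩
      exact ⟨(m : M), rfl⟩)
    have hker : LinearMap.ker g ≤ LinearMap.range h := by
      intro q hq
      obtain ⟨m, rfl⟩ := Submodule.mkQ_surjective _ q
      have hq' : f.rangeRestrict m ∈ NI := (Submodule.Quotient.mk_eq_zero _).mp hq
      obtain ⟨⟨_, m₁, rfl⟩, hm⟩ := hq'
      have hm' : a • f m₁ = f m := congrArg Subtype.val hm
      refine ⟨Submodule.Quotient.mk ⟨m - a • m₁, ?_⟩, ?_⟩
      · rw [LinearMap.mem_ker, map_sub, map_smul, hm', sub_self]
      · refine (Submodule.Quotient.eq N).mpr ⟨-m₁, ?_⟩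
        simp
    rw [Module.length_eq_add_of_exact (LinearMap.ker g).subtype g Subtype.val_injective hg
      (LinearMap.exact_subtype_ker_map g)]
    calc _ ≤ Module.length R (M' ⧸ N') + Ring.ord R a := by
          refine add_le_add ?_ (length_ideal_quot_smul_le ha I)
          refine le_trans (Module.length_le_of_injective (Submodule.inclusion hker)
            (Submodule.inclusion_injective hker)) ?_
          exact Module.length_le_of_surjective h.rangeRestrict h.surjective_rangeRestrict
      _ ≤ n * Ring.ord R a + Ring.ord R a := add_le_add (ih j' hj') le_rfl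
      _ = _ := by push_cast; ring

variable (K : Type*) {L : Type*} [Field K] [Field L] [Algebra R K] [IsFractionRing R K]
  [Algebra K L] [FiniteDimensional K L] [Algebra R L] [IsScalarTower R K L]

omit [Ring.DimensionLEOne R] [IsNoetherianRing R] in
lemma exists_injective_to_pi (M : Submodule R L) (hM : M.FG) :
    ∃ j : M →ₗ[R] (Fin (finrank K L) → R), Function.Injective j := by
  let b := Module.finBasis K L
  let c : Fin (finrank K L) → (L →ₗ[R] K) := fun i => (b.coord i).restrictScalars R
  choose j hj using fun i => DVRDom.exists_injective_to_ring (M.map (c i)) (hM.map (c i))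
  refine ⟨LinearMap.pi fun i => (j i).comp (((c i).comp M.subtype).codRestrict _
    fun m => Submodule.mem_map_of_mem m.2), fun x y hxy => ?_⟩
  refine Subtype.ext (b.repr.injective (Finsupp.ext fun i => ?_))
  exact congrArg Subtype.val (hj i (congrFun hxy i))

variable {A : Type*} [CommRing A] [Algebra R A] [Algebra A L] [IsScalarTower R A L]
  (hA : Function.Injective (algebraMap A L))

include K hA

theorem length_submodule_quotient_le {a : R} (ha : a ≠ 0)
    (P : Submodule R (A ⧸ Ideal.span {algebraMap R A a})) (hP : P.FG) :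
    Module.length R P ≤ finrank K L * Ring.ord R a := by
  classical
  obtain ⟨s, hs⟩ := hP
  let J : Ideal A := Ideal.span {algebraMap R A a}
  let q : A →ₗ[R] A ⧸ J := (Submodule.mkQ J).restrictScalars R
  choose g hg using fun z : A ⧸ J ↦ Submodule.mkQ_surjective J z
  let M : Submodule R A := Submodule.span R (g '' (s : Set (A ⧸ J)))
  have hM : M.FG := Submodule.fg_span ((s.finite_toSet).image g)
  have hMP : M.map q = P := by
    rw [← hs, Submodule.map_span, ← Set.image_comp]
    congr 1
    ext z
    simp [q, hg]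
  let ι : A →ₗ[R] L := (IsScalarTower.toAlgHom R A L).toLinearMap
  obtain ⟨j, hj⟩ := exists_injective_to_pi K (M.map ι) (hM.map ι)
  let j' : M →ₗ[R] (Fin (finrank K L) → R) := j.comp ((ι.comp M.subtype).codRestrict (M.map ι)
    fun m ↦ Submodule.mem_map_of_mem m.2)
  have hj' : Function.Injective j' := fun u v huv ↦
    Subtype.ext (hA (congrArg Subtype.val (hj huv) :))
  refine le_trans ?_ (length_quot_smul_le_of_injective ha _ j' hj')
  let ψ : (M ⧸ LinearMap.range (LinearMap.lsmul R M a)) →ₗ[R] A ⧸ J :=
    Submodule.liftQ _ (q.comp M.subtype) (by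
      rintro _ ⟨m, rfl⟩
      refine (Submodule.Quotient.mk_eq_zero J).mpr ?_
      exact Ideal.mem_span_singleton.mpr ⟨(m : A), by simp [Algebra.smul_def]⟩)
  have hψ : LinearMap.range ψ = P := by
    rw [Submodule.range_liftQ, LinearMap.range_comp, Submodule.range_subtype, hMP]
  rw [← hψ]
  exact Module.length_le_of_surjective ψ.rangeRestrict ψ.surjective_rangeRestrict

/-- `A / aA` is a noetherian `R`-module, for `a ≠ 0` in `R`. -/
theorem isNoetherian_quotient {a : R} (ha : a ≠ 0) :
    IsNoetherian R (A ⧸ Ideal.span {algebraMap R A a}) := by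
  obtain ⟨N, hN⟩ := ENat.ne_top_iff_exists.mp (Ring.ord_ne_top (mem_nonZeroDivisors_of_ne_zero ha))
  refine DVRDom.isNoetherian_of_forall_fg_length_le (N := finrank K L * N) fun P hP => ?_
  refine (length_submodule_quotient_le K hA ha P hP).trans (le_of_eq ?_)
  rw [← hN, Nat.cast_mul]

omit [IsNoetherianRing R] [Ring.DimensionLEOne R] in
theorem exists_ne_zero_mem {J : Ideal A} (hJ : J ≠ ⊥) :
    ∃ r : R, r ≠ 0 ∧ algebraMap R A r ∈ J := by
  have : IsDomain A := hA.isDomain (algebraMap A L)
  obtain ⟨y, hyJ, hy⟩ := Submodule.exists_mem_ne_zero_of_ne_bot hJ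
  have halgL : IsAlgebraic R (algebraMap A L y) :=
    (IsFractionRing.isAlgebraic_iff R K L).mpr (IsAlgebraic.of_finite K _)
  have halg : IsAlgebraic R y :=
    (isAlgebraic_algHom_iff (IsScalarTower.toAlgHom R A L) hA).mp halgL
  obtain ⟨r, hr, t, ht⟩ := halg.exists_nonzero_dvd (mem_nonZeroDivisors_of_ne_zero hy)
  exact ⟨r, hr, ht ▸ J.mul_mem_right t hyJ⟩

variable (R) in
include R in
/-- **Krull–Akizuki**. -/
theorem isNoetherianRing_of_between : IsNoetherianRing A := by
  refine (isNoetherianRing_iff_ideal_fg _).mpr fun J ↦ ?_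
  rcases eq_or_ne J ⊥ with rfl | hJ
  · exact Submodule.fg_bot
  obtain ⟨a, ha, haJ⟩ := exists_ne_zero_mem (R := R) K hA hJ
  have := isNoetherian_quotient K hA ha
  have : IsNoetherian A (A ⧸ Ideal.span {algebraMap R A a}) := isNoetherian_of_tower R inferInstance
  have hmap : (Submodule.map (Submodule.mkQ (Ideal.span {algebraMap R A a})) J).FG :=
    IsNoetherian.noetherian _
  refine Submodule.fg_of_fg_map_of_fg_inf_ker _ hmap ?_
  rw [Submodule.ker_mkQ, inf_eq_right.mpr ((Ideal.span_singleton_le_iff_mem J).mpr haJ)]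
  exact Submodule.fg_span_singleton _

/-- The residue rings of `A` at nonzero ideals are finite over the base. -/
theorem finite_quotient {J : Ideal A} (hJ : J ≠ ⊥) : Module.Finite R (A ⧸ J) := by
  obtain ⟨a, ha, haJ⟩ := exists_ne_zero_mem (R := R) K hA hJ
  have := isNoetherian_quotient K hA ha
  exact Module.Finite.of_surjective
    ((Submodule.factor ((Ideal.span_singleton_le_iff_mem J).mpr haJ)).restrictScalars R)
    (Submodule.factor_surjective ((Ideal.span_singleton_le_iff_mem J).mpr haJ))

end GrothLib.KrullAkizuki
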