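import Mathlib.LinearAlgebra.Charpoly.Basic
import Mathlib.RingTheory.IntegralClosure.IntegrallyClosed
import Mathlib.RingTheory.AdjoinRoot
import Mathlib.RingTheory.Polynomial.GaussLemma
import Mathlib.RingTheory.Localization.BaseChange
import Mathlib.RingTheory.Finiteness.Basic
import Mathlib.RingTheory.TensorProduct.Finite

/-! Monogenic torsion-free finite algebras over integrally closed domains. -/

namespace GrothLib.CAlgMisc

universe u

open Polynomial TensorProduct

theorem ker_aeval_eq_span_charpoly {A : Type u} [CommRing A] [IsDomain A] [IsIntegrallyClosed A]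
    {B : Type u} [CommRing B] [Algebra A B] [Module.Finite A B] [NoZeroSMulDivisors A B]
    (x : B) (hx : Algebra.adjoin A {x} = ⊤) :
    ∃ P : A[X], P.Monic ∧
      P.map (algebraMap A (FractionRing A)) =
        (LinearMap.mulLeft (FractionRing A) ((1 : FractionRing A) ⊗ₜ[A] x)).charpoly ∧
      RingHom.ker (aeval x).toRingHom = Ideal.span {P} := by
  classical
  set K := FractionRing A
  set V := K ⊗[A] B
  set y : V := (1 : K) ⊗ₜ[A] x
  set f := LinearMap.mulLeft K y
  set P' := f.charpoly
  have hcomp : ∀ q : A[X], aeval y (q.map (algebraMap A K)) = (1 : K) ⊗ₜ[A] aeval x q := by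
    intro q
    rw [aeval_map_algebraMap]
    exact aeval_algHom_apply (Algebra.TensorProduct.includeRight : B →ₐ[A] V) x q
  have hP'0 : aeval y P' = 0 := by
    have h1 : aeval f P' = Algebra.lmul K V (aeval y P') := by
      rw [← aeval_algHom_apply]; rfl
    have h2 : Algebra.lmul K V (aeval y P') = 0 := h1.symm.trans f.aeval_self_charpoly
    simpa using LinearMap.congr_fun h2 1
  have hmon : P'.Monic := f.charpoly_monic
  have hdeg : P'.natDegree = Module.finrank K V := f.charpoly_natDegree
  have hsurj : Function.Surjective (aeval y : K[X] →ₐ[K] V) := by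
    intro v
    induction v using TensorProduct.induction_on with
    | zero => exact ⟨0, map_zero _⟩
    | tmul c b =>
      have hb : b ∈ Algebra.adjoin A {x} := hx ▸ trivial
      rw [Algebra.adjoin_singleton_eq_range_aeval] at hb
      obtain ⟨q, rfl⟩ := hb
      refine ⟨C c * q.map (algebraMap A K), ?_⟩
      rw [map_mul, aeval_C, hcomp]
      show algebraMap K V c * (1 : K) ⊗ₜ[A] aeval x q = c ⊗ₜ[A] aeval x q
      rw [Algebra.TensorProduct.algebraMap_apply, Algebra.TensorProduct.tmul_mul_tmul]
      simp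
    | add a b ha hb =>
      obtain ⟨p, rfl⟩ := ha
      obtain ⟨q, rfl⟩ := hb
      exact ⟨p + q, map_add _ _ _⟩
  let φ : AdjoinRoot P' →ₐ[K] V :=
    Ideal.Quotient.liftₐ _ (aeval y) fun q hq => by
      obtain ⟨r, rfl⟩ := Ideal.mem_span_singleton.1 hq
      rw [map_mul, hP'0, zero_mul]
  have hφs : Function.Surjective φ := by
    intro v
    obtain ⟨q, rfl⟩ := hsurj v
    exact ⟨AdjoinRoot.mk P' q, rfl⟩
  have hφi : Function.Injective φ := by
    have hpb := AdjoinRoot.powerBasis' hmon
    have : Module.Finite K (AdjoinRoot P') := hpb.finite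
    have hfr : Module.finrank K (AdjoinRoot P') = Module.finrank K V := by
      rw [(AdjoinRoot.powerBasis' hmon).finrank, AdjoinRoot.powerBasis'_dim, hdeg]
    exact (LinearMap.injective_iff_surjective_of_finrank_eq_finrank hfr (f := φ.toLinearMap)).2 hφs
  have hdvd : ∀ q : K[X], aeval y q = 0 → P' ∣ q := fun q hq => by
    rw [← AdjoinRoot.mk_eq_zero]
    exact hφi ((show φ (AdjoinRoot.mk P' q) = aeval y q from rfl).trans (hq.trans (map_zero _).symm))
  have hxint : IsIntegral A x := IsIntegral.of_finite A x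
  obtain ⟨g, hgm, hg⟩ := hxint
  have hPdvd : P' ∣ g.map (algebraMap A K) := hdvd _ (by
    rw [hcomp, aeval_def, hg, tmul_zero])
  obtain ⟨P, hP⟩ := IsIntegrallyClosed.eq_map_mul_C_of_dvd K hgm hPdvd
  rw [hmon.leadingCoeff, map_one, mul_one] at hP
  have hPm : P.Monic := monic_of_injective (IsFractionRing.injective A K) (hP ▸ hmon)
  refine ⟨P, hPm, hP, ?_⟩
  have hinj : Function.Injective fun b : B => (1 : K) ⊗ₜ[A] b := by
    intro b c hbc
    obtain ⟨s, hs⟩ :=
      (IsLocalizedModule.eq_iff_exists (nonZeroDivisors A) (TensorProduct.mk A K B 1)).1 hbc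
    exact smul_right_injective B (nonZeroDivisors.ne_zero s.2) hs
  ext q
  rw [RingHom.mem_ker, Ideal.mem_span_singleton]
  show aeval x q = 0 ↔ _
  refine ⟨fun hq => ?_, fun ⟨r, hr⟩ => ?_⟩
  · refine (map_dvd_map (algebraMap A K) (IsFractionRing.injective A K) hPm).1 ?_
    rw [hP]
    exact hdvd _ (by rw [hcomp, hq, tmul_zero])
  · apply hinj
    show (1 : K) ⊗ₜ[A] aeval x q = (1 : K) ⊗ₜ[A] (0 : B)
    rw [tmul_zero, ← hcomp, hr, Polynomial.map_mul, map_mul, hP, hP'0, zero_mul]

end GrothLib.CAlgMisc
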