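import Mathlib.RingTheory.NoetherNormalization
import Mathlib.RingTheory.MvPolynomial.Localization
import Mathlib.RingTheory.Localization.Integral
import Mathlib.RingTheory.Polynomial.ScaleRoots
import Mathlib.RingTheory.AlgebraicIndependent.Defs
import Mathlib.RingTheory.TensorProduct.Maps
import Mathlib.RingTheory.Localization.BaseChange
import Mathlib.RingTheory.FiniteType
import Mathlib.RingTheory.FiniteStability
import Mathlib.RingTheory.Localization.FractionRing

/-! Noether normalisation over a domain. -/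

universe u

open TensorProduct

namespace GrothLib.CAlgMisc

open MvPolynomial in
theorem noether_normalization_domain {R S : Type u} [CommRing R] [IsDomain R] [CommRing S] [Algebra R S]
    [Algebra.FiniteType R S] (hinj : Function.Injective (algebraMap R S)) :
    ∃ (d : ℕ) (y : Fin d → S) (S' : Subalgebra R S), AlgebraicIndependent R y ∧ (∀ i, y i ∈ S') ∧ S'.FG ∧
      (∀ s ∈ S', IsIntegral (Algebra.adjoin R (Set.range y)) s) ∧
      ∃ f : R, f ≠ 0 ∧ ∀ s : S, ∃ n : ℕ, (f ^ n) • s ∈ S' := by
  classical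
  let K := FractionRing R
  let j : S →ₐ[R] K ⊗[R] S := Algebra.TensorProduct.includeRight
  have : IsLocalizedModule (nonZeroDivisors R) j.toLinearMap :=
    (isLocalizedModule_iff_isBaseChange (nonZeroDivisors R) K _).mpr (TensorProduct.isBaseChange R S K)
  have hker : ∀ s, j s = 0 → ∃ r : R, r ≠ 0 ∧ r • s = 0 := fun s hs => by
    obtain ⟨r, hr⟩ := (IsLocalizedModule.eq_zero_iff (nonZeroDivisors R) j.toLinearMap).mp hs
    exact ⟨r, nonZeroDivisors.coe_ne_zero r, hr⟩
  have hlift : ∀ x, ∃ (r : R) (s : S), r ≠ 0 ∧ algebraMap R (K ⊗[R] S) r * x = j s := fun x => by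
    obtain ⟨⟨s, r⟩, hs⟩ := IsLocalizedModule.surj (nonZeroDivisors R) j.toLinearMap x
    exact ⟨r, s, nonZeroDivisors.coe_ne_zero r, by
      rw [← Algebra.smul_def]; exact hs⟩
  have : Nontrivial (K ⊗[R] S) := ⟨⟨1, 0, fun h => by
    obtain ⟨r, hr, h0⟩ := hker 1 (by rw [map_one]; exact h)
    rw [← Algebra.algebraMap_eq_smul_one] at h0
    exact hr ((map_eq_zero_iff _ hinj).mp h0)⟩⟩
  obtain ⟨d, φ, hφ, hφint⟩ := exists_integral_inj_algHom_of_fg K (K ⊗[R] S)
  choose c Y hc hY using fun i => hlift (φ (X i))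
  have hcK : ∀ i, algebraMap R K (c i) ≠ 0 := fun i =>
    (map_ne_zero_iff _ (IsFractionRing.injective R K)).mpr (hc i)
  let σ : MvPolynomial (Fin d) K →ₐ[K] MvPolynomial (Fin d) K :=
    aeval fun i => C (algebraMap R K (c i)) * X i
  let τ : MvPolynomial (Fin d) K →ₐ[K] MvPolynomial (Fin d) K :=
    aeval fun i => C (algebraMap R K (c i))⁻¹ * X i
  have hστ : σ.comp τ = AlgHom.id K _ := by
    apply algHom_ext
    intro i
    simp only [σ, τ, AlgHom.comp_apply, aeval_X, map_mul, aeval_C, AlgHom.id_apply]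
    rw [algebraMap_eq, ← mul_assoc, ← map_mul, inv_mul_cancel₀ (hcK i), map_one, one_mul]
  have hτσ : τ.comp σ = AlgHom.id K _ := by
    apply algHom_ext
    intro i
    simp only [σ, τ, AlgHom.comp_apply, aeval_X, map_mul, aeval_C, AlgHom.id_apply]
    rw [algebraMap_eq, ← mul_assoc, ← map_mul, mul_inv_cancel₀ (hcK i), map_one, one_mul]
  let e := AlgEquiv.ofAlgHom σ τ hστ hτσ
  let ψ : MvPolynomial (Fin d) K →ₐ[K] K ⊗[R] S := φ.comp e.toAlgHom
  have hψ : Function.Injective ψ := hφ.comp e.injective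
  have hψint : ψ.toRingHom.IsIntegral := by
    show (φ.toRingHom.comp e.toAlgHom.toRingHom).IsIntegral
    exact RingHom.IsIntegral.trans _ _ (RingHom.IsIntegral.of_finite
      (RingHom.Finite.of_surjective _ e.surjective)) hφint
  let θ : MvPolynomial (Fin d) R →ₐ[R] S := aeval Y
  let m : MvPolynomial (Fin d) R →+* MvPolynomial (Fin d) K := map (algebraMap R K)
  have hm : ∀ p, ψ (m p) = j (θ p) := by
    intro p
    induction p using MvPolynomial.induction_on with
    | C a =>
      rw [show m (C a) = C (algebraMap R K a) from map_C _ _,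
        show θ (C a) = algebraMap R S a from aeval_C _ _, AlgHom.commutes,
        ← algebraMap_eq, AlgHom.commutes, ← IsScalarTower.algebraMap_apply]
    | add p q hp hq => simp only [map_add, hp, hq]
    | mul_X p i hp =>
      rw [map_mul, map_mul, map_mul, map_mul, hp, show θ (X i) = Y i from aeval_X _ _,
        show m (X i) = X i from map_X _ _]
      congr 1
      show φ (σ (X i)) = _
      rw [show σ (X i) = C (algebraMap R K (c i)) * X i from aeval_X _ _, map_mul, ← algebraMap_eq,
        AlgHom.commutes, ← IsScalarTower.algebraMap_apply, hY]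
  have hind : AlgebraicIndependent R Y := by
    rw [algebraicIndependent_iff_injective_aeval]
    refine (injective_iff_map_eq_zero _).mpr fun p hp => ?_
    have : ψ (m p) = 0 := by rw [hm]; exact (congrArg j hp).trans (map_zero _)
    exact map_injective _ (IsFractionRing.injective R K) (by
      rw [map_zero]; exact hψ (this.trans (map_zero ψ).symm))
  let A := Algebra.adjoin R (Set.range Y)
  -- clearing denominators
  have key : ∀ g : S, ∃ r : R, r ≠ 0 ∧ IsIntegral A (r • g) := by
    intro g
    letI : Algebra (MvPolynomial (Fin d) R) (MvPolynomial (Fin d) K) := m.toAlgebra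
    letI : Algebra (MvPolynomial (Fin d) K) (K ⊗[R] S) := ψ.toRingHom.toAlgebra
    letI : Algebra (MvPolynomial (Fin d) R) (K ⊗[R] S) := (ψ.toRingHom.comp m).toAlgebra
    haveI : IsScalarTower (MvPolynomial (Fin d) R) (MvPolynomial (Fin d) K) (K ⊗[R] S) :=
      IsScalarTower.of_algebraMap_eq fun _ => rfl
    haveI : IsLocalization ((nonZeroDivisors R).map (C (σ := Fin d))) (MvPolynomial (Fin d) K) :=
      MvPolynomial.isLocalization _ _
    obtain ⟨⟨_, r, hr, rfl⟩, q, hq, hq0⟩ :=
      IsIntegral.exists_multiple_integral_of_isLocalization ((nonZeroDivisors R).map (C (σ := Fin d)))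
        (Rₘ := MvPolynomial (Fin d) K) (j g) (hψint (j g))
    have hrg : ((C r : MvPolynomial (Fin d) R)) • j g = j (r • g) := by
      rw [Algebra.smul_def, Algebra.smul_def, map_mul]
      congr 1
      show ψ (m (C r)) = _
      rw [hm, show θ (C r) = algebraMap R S r from aeval_C _ _]
    let q' := Polynomial.X * q
    have hq' : q'.Monic := Polynomial.monic_X.mul hq
    have hdeg : q'.natDegree ≠ 0 := by
      simp only [q']
      rw [Polynomial.natDegree_X_mul hq.ne_zero]
      omega
    have hz : j (q'.eval₂ θ.toRingHom (r • g)) = 0 := by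
      have h1 : j.toRingHom.comp θ.toRingHom = algebraMap (MvPolynomial (Fin d) R) (K ⊗[R] S) :=
        RingHom.ext fun p => (hm p).symm
      show j.toRingHom _ = 0
      rw [Polynomial.hom_eval₂, h1]
      simp only [q', Polynomial.eval₂_mul, Polynomial.eval₂_X]
      rw [show j.toRingHom (r • g) = (C r : MvPolynomial (Fin d) R) • j g from hrg.symm]
      exact mul_eq_zero_of_right _ hq0
    obtain ⟨r₂, hr₂, h0⟩ := hker _ hz
    refine ⟨r₂ * r, mul_ne_zero hr₂ (nonZeroDivisors.ne_zero hr), ?_⟩
    have hθA : ∀ p, θ p ∈ A := fun p => by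
      show θ p ∈ Algebra.adjoin R (Set.range Y)
      rw [Algebra.adjoin_range_eq_range_aeval]
      exact ⟨p, rfl⟩
    refine ⟨(q'.scaleRoots (C r₂)).map (θ.toRingHom.codRestrict A.toSubring hθA),
      ((Polynomial.monic_scaleRoots_iff _).mpr hq').map _, ?_⟩
    rw [Polynomial.eval₂_map]
    show Polynomial.eval₂ θ.toRingHom ((r₂ * r) • g) (q'.scaleRoots (C r₂)) = 0
    have h2 : (r₂ * r) • g = θ.toRingHom (C r₂) * (r • g) := by
      show _ = θ (C r₂) * _
      rw [show θ (C r₂) = algebraMap R S r₂ from aeval_C _ _, ← Algebra.smul_def, smul_smul]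
    rw [h2, Polynomial.scaleRoots_eval₂_mul]
    obtain ⟨n, hn⟩ := Nat.exists_eq_succ_of_ne_zero hdeg
    show (θ (C r₂)) ^ q'.natDegree * _ = 0
    rw [show θ (C r₂) = algebraMap R S r₂ from aeval_C _ _, hn, pow_succ, mul_assoc,
      ← Algebra.smul_def, h0, mul_zero]
  obtain ⟨G, hG⟩ := (inferInstance : Algebra.FiniteType R S)
  choose f hf hfint using key
  let T : Set S := Set.range Y ∪ (fun g => f g • g) '' (G : Set S)
  refine ⟨d, Y, Algebra.adjoin R T, hind, fun i => Algebra.subset_adjoin (Or.inl ⟨i, rfl⟩),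
    Subalgebra.fg_def.mpr ⟨T, (Set.finite_range _).union (G.finite_toSet.image _), rfl⟩,
    fun s hs => ?_, ∏ g ∈ G, f g, Finset.prod_ne_zero_iff.mpr fun g _ => hf g, fun s => ?_⟩
  · have hle : Algebra.adjoin R T ≤ (integralClosure A S).restrictScalars R := by
      refine Algebra.adjoin_le ?_
      rintro x (⟨i, rfl⟩ | ⟨g, -, rfl⟩)
      · exact isIntegral_algebraMap (x := (⟨Y i, Algebra.subset_adjoin ⟨i, rfl⟩⟩ : A))
      · exact hfint g
    exact hle hs
  · have hs : s ∈ Algebra.adjoin R (G : Set S) := hG ▸ Algebra.mem_top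
    induction hs using Algebra.adjoin_induction with
    | mem g hg =>
      refine ⟨1, ?_⟩
      rw [pow_one, ← Finset.mul_prod_erase G f hg, mul_comm, mul_smul]
      exact Subalgebra.smul_mem _ (Algebra.subset_adjoin (R := R) (s := T) (Or.inr ⟨g, hg, rfl⟩)) _
    | algebraMap r =>
      refine ⟨0, ?_⟩
      rw [pow_zero, one_smul]
      exact Subalgebra.algebraMap_mem _ r
    | add a b _ _ ha hb =>
      obtain ⟨na, ha⟩ := ha
      obtain ⟨nb, hb⟩ := hb
      refine ⟨na + nb, ?_⟩
      rw [smul_add]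
      refine add_mem ?_ ?_
      · rw [pow_add, mul_comm, mul_smul]; exact Subalgebra.smul_mem _ ha _
      · rw [pow_add, mul_smul]; exact Subalgebra.smul_mem _ hb _
    | mul a b _ _ ha hb =>
      obtain ⟨na, ha⟩ := ha
      obtain ⟨nb, hb⟩ := hb
      exact ⟨na + nb, by rw [pow_add, ← smul_mul_smul_comm]; exact mul_mem ha hb⟩

end GrothLib.CAlgMisc
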