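import Groth.Agent.Lib.Dim.Ring
import Mathlib.RingTheory.Norm.Transitivity
import Mathlib.FieldTheory.Minpoly.IsIntegrallyClosed
import Mathlib.RingTheory.Ideal.GoingUp
import Mathlib.RingTheory.Spectrum.Prime.Topology

/-! The image of `V(b)` under an integral extension of a normal domain is `V(N b)`. -/

namespace GrothLib.CAlgMisc

universe u

open Polynomial

variable (A B K L : Type u) [CommRing A] [IsDomain A] [CommRing B] [IsDomain B] [Algebra A B]
  [Field K] [Field L] [Algebra A K] [IsFractionRing A K] [Algebra B L] [IsFractionRing B L]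
  [Algebra A L] [Algebra K L] [IsScalarTower A B L] [IsScalarTower A K L]
  [FiniteDimensional K L] [Algebra.IsIntegral A B] [IsIntegrallyClosed A]

theorem norm_eq_pow_coeff_zero (hinj : Function.Injective (algebraMap A B)) (b : B) (a : A)
    (ha : algebraMap A K a = Algebra.norm K (algebraMap B L b)) :
    ∃ n m : ℕ, 0 < m ∧ a = ((-1) ^ n * (minpoly A b).coeff 0) ^ m := by
  set y := algebraMap B L b
  have hyA : IsIntegral A y := (Algebra.IsIntegral.isIntegral b).map (IsScalarTower.toAlgHom A B L)
  have hy : IsIntegral K y := IsIntegral.of_finite K y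
  have hmin : minpoly K y = (minpoly A b).map (algebraMap A K) := by
    rw [minpoly.isIntegrallyClosed_eq_field_fractions' K hyA, minpoly.algebraMap_eq (IsFractionRing.injective B L)]
  have h1 := Algebra.norm_eq_norm_adjoin K y
  have h2 : Algebra.norm K (IntermediateField.AdjoinSimple.gen K y) =
      (-1) ^ (minpoly K y).natDegree * (minpoly K y).coeff 0 := by
    rw [← IntermediateField.adjoin.powerBasis_gen hy,
      Algebra.PowerBasis.norm_gen_eq_coeff_zero_minpoly, IntermediateField.adjoin.powerBasis_dim,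
      IntermediateField.adjoin.powerBasis_gen hy]
    rw [IntermediateField.minpoly_gen]
  refine ⟨(minpoly K y).natDegree, Module.finrank (IntermediateField.adjoin K {y}) L,
    Module.finrank_pos, IsFractionRing.injective A K ?_⟩
  rw [ha, h1, h2, hmin, coeff_map]
  simp

theorem image_zeroLocus (hinj : Function.Injective (algebraMap A B)) (b : B) (a : A)
    (ha : algebraMap A K a = Algebra.norm K (algebraMap B L b)) :
    PrimeSpectrum.comap (algebraMap A B) '' PrimeSpectrum.zeroLocus ({b} : Set B) =
      PrimeSpectrum.zeroLocus ({a} : Set A) := by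
  obtain ⟨n, m, hm, hab⟩ := norm_eq_pow_coeff_zero A B K L hinj b a ha
  have hiff : ∀ P : PrimeSpectrum A, a ∈ P.asIdeal ↔ (minpoly A b).coeff 0 ∈ P.asIdeal := by
    intro P
    rw [hab, P.2.pow_mem_iff_mem m hm, Ideal.unit_mul_mem_iff_mem _ (IsUnit.pow n isUnit_one.neg)]
  have hbint : IsIntegral A b := Algebra.IsIntegral.isIntegral b
  have : Module.IsTorsionFree A B := Module.isTorsionFree_iff_algebraMap_injective.2 hinj
  ext P
  rw [PrimeSpectrum.mem_zeroLocus, Set.singleton_subset_iff, SetLike.mem_coe, hiff]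
  refine ⟨?_, fun hP => ?_⟩
  · rintro ⟨Q, hQ, rfl⟩
    rw [PrimeSpectrum.mem_zeroLocus, Set.singleton_subset_iff] at hQ
    exact Ideal.coeff_zero_mem_comap_of_root_mem hQ (minpoly.aeval A b)
  · let _ : Algebra A[X] B := (aeval b).toRingHom.toAlgebra
    have : IsScalarTower A A[X] B := IsScalarTower.of_algebraMap_eq fun r => by
      show algebraMap A B r = aeval b (C r)
      rw [aeval_C]
    have : Algebra.IsIntegral A[X] B := ⟨fun z => (Algebra.IsIntegral.isIntegral (R := A) z).tower_top⟩
    have hp : (P.asIdeal.comap (evalRingHom (0 : A))).IsPrime := Ideal.comap_isPrime _ _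
    obtain ⟨Q, -, hQp, hQ⟩ := Ideal.exists_ideal_over_prime_of_isIntegral
      (R := A[X]) (S := B) (P.asIdeal.comap (evalRingHom (0 : A))) ⊥ (fun q hq => by
        have hq0 : aeval b q = 0 := hq
        obtain ⟨r, rfl⟩ := minpoly.isIntegrallyClosed_dvd hbint hq0
        rw [Ideal.mem_comap, coe_evalRingHom, eval_mul, ← coeff_zero_eq_eval_zero]
        exact P.asIdeal.mul_mem_right _ hP)
    refine ⟨⟨Q, hQp⟩, ?_, ?_⟩
    · rw [PrimeSpectrum.mem_zeroLocus, Set.singleton_subset_iff, SetLike.mem_coe]
      have : (X : A[X]) ∈ Q.comap (algebraMap A[X] B) := by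
        rw [hQ, Ideal.mem_comap, coe_evalRingHom, eval_X]; exact Ideal.zero_mem _
      simpa [RingHom.algebraMap_toAlgebra] using this
    · refine PrimeSpectrum.ext ?_
      show Q.comap (algebraMap A B) = P.asIdeal
      rw [IsScalarTower.algebraMap_eq A A[X] B, ← Ideal.comap_comap, hQ]
      ext r
      simp

/-- The Krull dimension of a closed subset of a prime spectrum. -/
theorem topologicalKrullDim_zeroLocus {R : Type u} [CommRing R] (I : Ideal R) :
    topologicalKrullDim ↥(PrimeSpectrum.zeroLocus (I : Set R)) = ringKrullDim (R ⧸ I) := by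
  rw [← PrimeSpectrum.topologicalKrullDim_eq_ringKrullDim]
  have he := (PrimeSpectrum.isClosedEmbedding_comap_of_surjective (R ⧸ I) (Ideal.Quotient.mk I)
    Ideal.Quotient.mk_surjective).toIsEmbedding.toHomeomorph
  have hr : Set.range (PrimeSpectrum.comap (Ideal.Quotient.mk I)) = PrimeSpectrum.zeroLocus (I : Set R) := by
    rw [range_comap_of_surjective _ _ Ideal.Quotient.mk_surjective, Ideal.mk_ker]
  exact ((he.trans (Homeomorph.setCongr hr)).isHomeomorph.topologicalKrullDim_eq _).symm

theorem topologicalKrullDim_zeroLocus_eq (hinj : Function.Injective (algebraMap A B)) (b : B) (a : A)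
    (ha : algebraMap A K a = Algebra.norm K (algebraMap B L b)) :
    topologicalKrullDim ↥(PrimeSpectrum.zeroLocus ({b} : Set B)) =
      topologicalKrullDim ↥(PrimeSpectrum.zeroLocus ({a} : Set A)) := by
  set J := (Ideal.span {b}).comap (algebraMap A B)
  have hJ : PrimeSpectrum.zeroLocus (J : Set A) = PrimeSpectrum.zeroLocus ({a} : Set A) := by
    rw [← image_zeroLocus A B K L hinj b a ha]
    refine Set.Subset.antisymm ?_ ?_
    · intro P hP
      obtain ⟨Q, hQb, hQp, hQ⟩ := Ideal.exists_ideal_over_prime_of_isIntegral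
        (R := A) (S := B) P.asIdeal (Ideal.span {b}) hP
      exact ⟨⟨Q, hQp⟩, Set.singleton_subset_iff.2 (hQb (Ideal.mem_span_singleton_self b)),
        PrimeSpectrum.ext hQ⟩
    · rintro _ ⟨Q, hQ, rfl⟩ r hr
      exact (Ideal.span_le.2 hQ : Ideal.span {b} ≤ Q.asIdeal) hr
  have hb : PrimeSpectrum.zeroLocus ({b} : Set B) =
      PrimeSpectrum.zeroLocus (Ideal.span {b} : Set B) := (PrimeSpectrum.zeroLocus_span _).symm
  rw [hb, ← hJ, topologicalKrullDim_zeroLocus, topologicalKrullDim_zeroLocus]
  let _ : Algebra (A ⧸ J) (B ⧸ Ideal.span {b}) := Ideal.Quotient.algebraQuotientOfLEComap le_rfl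
  have hi : Function.Injective (algebraMap (A ⧸ J) (B ⧸ Ideal.span {b})) :=
    Ideal.quotientMap_injective
  have : IsScalarTower A (A ⧸ J) (B ⧸ Ideal.span {b}) := IsScalarTower.of_algebraMap_eq' rfl
  have : Algebra.IsIntegral A (B ⧸ Ideal.span {b}) :=
    ⟨fun z => by
      obtain ⟨z, rfl⟩ := Ideal.Quotient.mk_surjective z
      exact (Algebra.IsIntegral.isIntegral (R := A) z).map (Ideal.Quotient.mkₐ A _)⟩
  have : Algebra.IsIntegral (A ⧸ J) (B ⧸ Ideal.span {b}) :=
    ⟨fun z => (Algebra.IsIntegral.isIntegral (R := A) z).tower_top⟩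
  exact GrothLib.Dim.ringKrullDim_eq_of_isIntegral hi

end GrothLib.CAlgMisc
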