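import Mathlib.RingTheory.Finiteness.ModuleFinitePresentation
import Mathlib.RingTheory.FinitePresentation
import Mathlib.RingTheory.RingHom.FinitePresentation
import Mathlib.RingTheory.RingHom.Finite
import Mathlib.RingTheory.FiniteType

/-!
# Relative finite presentation of modules
-/

universe u

namespace GrothLib.CAlgMisc

theorem finitePresentation_iff_of_finitePresentation (T S M : Type u) [CommRing T] [CommRing S]
    [AddCommGroup M] [Algebra T S] [Module S M] [Module T M] [IsScalarTower T S M]
    [Module.FinitePresentation T S] :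
    Module.FinitePresentation T M ↔ Module.FinitePresentation S M := by
  refine ⟨fun h => ?_, fun h => Module.FinitePresentation.trans T M S⟩
  have : Module.Finite S M := Module.Finite.of_restrictScalars_finite T S M
  obtain ⟨n, g, hg⟩ := Module.Finite.exists_fin' S M
  refine Module.finitePresentation_of_surjective g hg ?_
  exact Submodule.FG.of_restrictScalars T
    (Module.FinitePresentation.fg_ker (g.restrictScalars T) hg)

/-- `M` is finitely presented through a ring map. -/
abbrev FPVia {T S : Type u} [CommRing T] [CommRing S] (f : T →+* S) (M : Type u) [AddCommGroup M]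
    [Module S M] : Prop :=
  @Module.FinitePresentation T M _ _ (Module.compHom M f)

variable {R B : Type u} [CommRing R] [CommRing B] [Algebra R B] {M : Type u} [AddCommGroup M] [Module B M]

theorem fpVia_comp {T S : Type u} [CommRing T] [CommRing S] [Algebra R T] [Algebra R S]
    [Algebra.FinitePresentation R S] [Algebra.FiniteType R T] (f : T →ₐ[R] S) (hf : f.toRingHom.Finite)
    (g : S →ₐ[R] B) : FPVia (g.comp f).toRingHom M ↔ FPVia g.toRingHom M := by
  let _ : Algebra T S := f.toRingHom.toAlgebra
  have : IsScalarTower R T S := IsScalarTower.of_algebraMap_eq' f.comp_algebraMap.symm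
  have : Module.Finite T S := hf
  have : Algebra.FinitePresentation T S := Algebra.FinitePresentation.of_restrict_scalars_finitePresentation R T S
  have : Module.FinitePresentation T S := Module.FinitePresentation.of_finite_of_finitePresentation T S
  let _ : Module S M := Module.compHom M g.toRingHom
  let _ : Module T M := Module.compHom M (g.comp f).toRingHom
  have : IsScalarTower T S M := ⟨fun t s m => by
    show g (f t * s) • m = g (f t) • (g s • m)
    rw [map_mul, mul_smul]⟩
  exact finitePresentation_iff_of_finitePresentation T S M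

theorem fpVia_iff_of_surjective {n k : ℕ} (α : MvPolynomial (Fin n) R →ₐ[R] B)
    (hα : Function.Surjective α) (β : MvPolynomial (Fin k) R →ₐ[R] B) (hβ : Function.Surjective β) :
    FPVia α.toRingHom M ↔ FPVia β.toRingHom M := by
  choose a ha using fun i => hα (β (MvPolynomial.X i))
  choose b hb using fun i => hβ (α (MvPolynomial.X i))
  let γ : MvPolynomial (Fin n ⊕ Fin k) R →ₐ[R] B :=
    MvPolynomial.aeval (Sum.elim (fun i => α (MvPolynomial.X i)) (fun i => β (MvPolynomial.X i)))
  let p₁ : MvPolynomial (Fin n ⊕ Fin k) R →ₐ[R] MvPolynomial (Fin n) R :=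
    MvPolynomial.aeval (Sum.elim MvPolynomial.X a)
  let p₂ : MvPolynomial (Fin n ⊕ Fin k) R →ₐ[R] MvPolynomial (Fin k) R :=
    MvPolynomial.aeval (Sum.elim b MvPolynomial.X)
  have h₁ : α.comp p₁ = γ := by
    refine MvPolynomial.algHom_ext fun i => ?_
    rcases i with i | i <;> simp [p₁, γ, ha]
  have h₂ : β.comp p₂ = γ := by
    refine MvPolynomial.algHom_ext fun i => ?_
    rcases i with i | i <;> simp [p₂, γ, hb]
  have hs₁ : Function.Surjective p₁ := fun x => ⟨MvPolynomial.rename Sum.inl x, by
    rw [MvPolynomial.aeval_rename, Sum.elim_comp_inl, MvPolynomial.aeval_X_left_apply]⟩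
  have hs₂ : Function.Surjective p₂ := fun x => ⟨MvPolynomial.rename Sum.inr x, by
    rw [MvPolynomial.aeval_rename, Sum.elim_comp_inr, MvPolynomial.aeval_X_left_apply]⟩
  rw [← fpVia_comp p₁ (RingHom.Finite.of_surjective _ hs₁) α,
    ← fpVia_comp p₂ (RingHom.Finite.of_surjective _ hs₂) β, h₁, h₂]

theorem fpVia_finite_extension {A : Type u} [CommRing A] [Algebra R A] [Algebra A B]
    [IsScalarTower R A B] [Module.Finite A B] [Module A M] [IsScalarTower A B M] {n k : ℕ}
    (α : MvPolynomial (Fin n) R →ₐ[R] A) (hα : Function.Surjective α)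
    (β : MvPolynomial (Fin k) R →ₐ[R] B) (hβ : Function.Surjective β) :
    @Module.FinitePresentation (MvPolynomial (Fin n) R) M _ _ (Module.compHom M α.toRingHom) ↔
      FPVia β.toRingHom M := by
  let φ : MvPolynomial (Fin n) R →ₐ[R] B := (IsScalarTower.toAlgHom R A B).comp α
  have hmod : (Module.compHom M α.toRingHom : Module (MvPolynomial (Fin n) R) M) =
      Module.compHom M φ.toRingHom :=
    Module.ext (funext fun r => funext fun m => (IsScalarTower.algebraMap_smul B (α r) m).symm)
  rw [hmod]
  show FPVia φ.toRingHom M ↔ _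
  have hφ : φ.toRingHom.Finite :=
    RingHom.Finite.comp (RingHom.finite_algebraMap.2 inferInstance)
      (RingHom.Finite.of_surjective _ hα)
  let _ : Algebra (MvPolynomial (Fin n) R) B := φ.toRingHom.toAlgebra
  have : IsScalarTower R (MvPolynomial (Fin n) R) B := IsScalarTower.of_algebraMap_eq' φ.comp_algebraMap.symm
  have : Module.Finite (MvPolynomial (Fin n) R) B := hφ
  obtain ⟨S', _, _, _, _, _, f, hf⟩ := Module.Finite.exists_free_surjective (MvPolynomial (Fin n) R) B
  let _ : Algebra R S' := ((algebraMap (MvPolynomial (Fin n) R) S').comp (algebraMap R _)).toAlgebra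
  have : IsScalarTower R (MvPolynomial (Fin n) R) S' := IsScalarTower.of_algebraMap_eq' rfl
  have : Algebra.FinitePresentation R S' := Algebra.FinitePresentation.trans R (MvPolynomial (Fin n) R) S'
  let g : S' →ₐ[R] B := f.restrictScalars R
  have hι : (g.comp (IsScalarTower.toAlgHom R (MvPolynomial (Fin n) R) S')) = φ :=
    AlgHom.ext fun r => f.commutes r
  rw [← hι, fpVia_comp _ (RingHom.finite_algebraMap.2 inferInstance) g]
  obtain ⟨m, π, hπ⟩ := Algebra.FiniteType.iff_quotient_mvPolynomial''.1
    (inferInstance : Algebra.FiniteType R S')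
  rw [← fpVia_comp π (RingHom.Finite.of_surjective _ hπ) g]
  exact fpVia_iff_of_surjective (g.comp π) (Function.Surjective.comp (g := g) hf hπ) β hβ

end GrothLib.CAlgMisc
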