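import Mathlib.LinearAlgebra.Dual.Lemmas
import Mathlib.RingTheory.Finiteness.Projective
import Mathlib.RingTheory.Ideal.Maps
import Mathlib.Algebra.Module.Projective
import Mathlib.RingTheory.Finiteness.Prod

/-!
Over a ring in which every proper finitely generated ideal has a nonzero annihilator, injective maps
of finite projective modules split.
-/

universe u

namespace GrothLib.CAlgMisc

variable {R : Type u} [CommRing R]

lemma exists_retraction_of_pi (hP : ∀ I : Ideal R, I.FG → I ≠ ⊤ → I.annihilator ≠ ⊥) (n : ℕ) :
    ∀ {M : Type u} [AddCommGroup M] [Module R M] [Module.Finite R M] [Module.Projective R M]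
      (u : (Fin n → R) →ₗ[R] M), Function.Injective u →
      ∃ r : M →ₗ[R] (Fin n → R), r ∘ₗ u = LinearMap.id := by
  induction n with
  | zero => exact fun _ _ => ⟨0, LinearMap.ext fun _ => Subsingleton.elim _ _⟩
  | succ n ih =>
    intro M _ _ _ _ u hu
    let v : M := u (Pi.single 0 1)
    let I : Ideal R := LinearMap.range (Module.Dual.eval R M v)
    have hfg : I.FG := Submodule.fg_range _
    have hI : I = ⊤ := by
      by_contra hne
      obtain ⟨a, ha, ha0⟩ := Submodule.exists_mem_ne_zero_of_ne_bot (hP I hfg hne)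
      refine ha0 ?_
      have hav : a • v = 0 := (Module.forall_dual_apply_eq_zero_iff R _).mp fun φ => by
        rw [map_smul]
        exact Submodule.mem_annihilator.mp ha _ ⟨φ, rfl⟩
      have : a • (Pi.single (0 : Fin (n + 1)) (1 : R)) = 0 := hu (by rw [map_smul, map_zero]; exact hav)
      simpa using congrFun this 0
    obtain ⟨φ, hφ⟩ : ∃ φ : Module.Dual R M, φ v = 1 := by
      obtain ⟨φ, hφ⟩ := (Ideal.eq_top_iff_one I).mp hI
      exact ⟨φ, hφ⟩
    let M' : Submodule R M := LinearMap.ker φ
    let p : M →ₗ[R] M' := LinearMap.codRestrict M' (LinearMap.id - φ.smulRight v) fun x => by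
      simp [M', hφ]
    have hp : p ∘ₗ M'.subtype = LinearMap.id := by
      ext x
      simp [p, LinearMap.mem_ker.mp x.2]
    have : Module.Projective R M' := Module.Projective.of_split M'.subtype p hp
    have : Module.Finite R M' := Module.Finite.of_surjective p
      fun x => ⟨x, LinearMap.congr_fun hp x⟩
    let tl : (Fin (n + 1) → R) →ₗ[R] (Fin n → R) := LinearMap.funLeft R R Fin.succ
    let inj : (Fin n → R) →ₗ[R] (Fin (n + 1) → R) :=
      LinearMap.pi (Fin.cases 0 fun i => LinearMap.proj i)
    have hy : ∀ y, y = y 0 • Pi.single 0 1 + inj (tl y) := fun y => by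
      funext i
      refine Fin.cases ?_ (fun i => ?_) i <;> simp [inj, tl, LinearMap.funLeft_apply]
    have htl : ∀ z, tl (inj z) = z := fun z => by
      funext i
      simp [inj, tl, LinearMap.funLeft_apply]
    let u' : (Fin n → R) →ₗ[R] M' := p ∘ₗ u ∘ₗ inj
    have hu' : Function.Injective u' := by
      refine (injective_iff_map_eq_zero _).mpr fun z hz => ?_
      have h1 : u (inj z) = φ (u (inj z)) • v := by
        have := congrArg Subtype.val hz
        simpa [u', p, sub_eq_zero] using this
      have h2 : inj z = φ (u (inj z)) • Pi.single 0 1 := hu (by rw [map_smul]; exact h1)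
      have h3 := congrArg tl h2
      rw [htl] at h3
      rw [h3]
      funext i
      simp [tl, LinearMap.funLeft_apply]
    obtain ⟨r', hr'⟩ := ih u' hu'
    let t : M →ₗ[R] (Fin n → R) := r' ∘ₗ p
    let h : M →ₗ[R] R := φ - φ ∘ₗ u ∘ₗ inj ∘ₗ t
    refine ⟨LinearMap.pi (Fin.cases h fun i => (LinearMap.proj i) ∘ₗ t), LinearMap.ext fun y => ?_⟩
    have hpv : p v = 0 := Subtype.ext (by simp [p, hφ])
    have ht : t (u y) = tl y := by
      conv_lhs => rw [hy y]
      show r' (p (u (y 0 • Pi.single 0 1 + inj (tl y)))) = _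
      rw [map_add, map_smul, map_add, map_smul, show p (u (Pi.single 0 1)) = 0 from hpv, smul_zero,
        zero_add]
      exact LinearMap.congr_fun hr' (tl y)
    funext i
    refine Fin.cases ?_ (fun i => ?_) i
    · have hφy : φ (u y) = y 0 + φ (u (inj (tl y))) := by
        conv_lhs => rw [hy y]
        rw [map_add, map_smul, map_add, map_smul, show φ (u (Pi.single 0 1)) = 1 from hφ,
          smul_eq_mul, mul_one]
      simp only [LinearMap.comp_apply, LinearMap.pi_apply, Fin.cases_zero, LinearMap.id_apply, h,
        LinearMap.sub_apply, ht, hφy, add_sub_cancel_right]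
    · simpa [LinearMap.funLeft_apply, tl] using congrFun ht i

theorem projective_quotient_range (hP : ∀ I : Ideal R, I.FG → I ≠ ⊤ → I.annihilator ≠ ⊥)
    {N M : Type u} [AddCommGroup N] [Module R N] [Module.Finite R N] [Module.Projective R N]
    [AddCommGroup M] [Module R M] [Module.Finite R M] [Module.Projective R M]
    (u : N →ₗ[R] M) (hu : Function.Injective u) :
    Module.Projective R (M ⧸ LinearMap.range u) := by
  obtain ⟨n, f, g, hf, hg, hfg⟩ := Module.Finite.exists_comp_eq_id_of_projective R N
  let N' : Submodule R (Fin n → R) := LinearMap.ker f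
  let q : (Fin n → R) →ₗ[R] N' := LinearMap.codRestrict N' (LinearMap.id - g ∘ₗ f) fun x => by
    simp [N', show f (g (f x)) = f x from LinearMap.congr_fun hfg (f x)]
  have : Module.Projective R N' := Module.Projective.of_split N'.subtype q (by
    ext x; simp [q, LinearMap.mem_ker.mp x.2])
  have : Module.Finite R N' := Module.Finite.of_surjective q fun x => ⟨x, by
    ext; simp [q, LinearMap.mem_ker.mp x.2]⟩
  let U : (Fin n → R) →ₗ[R] M × N' := (u ∘ₗ f).prod q
  have hU : Function.Injective U := by
    refine (injective_iff_map_eq_zero _).mpr fun x hx => ?_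
    have h1 : f x = 0 := hu (by rw [map_zero]; exact congrArg Prod.fst hx)
    have h2 : x - g (f x) = 0 := congrArg Subtype.val (congrArg Prod.snd hx)
    simpa [h1] using h2
  obtain ⟨r, hr⟩ := exists_retraction_of_pi hP n U hU
  let ρ : M →ₗ[R] N := f ∘ₗ r ∘ₗ LinearMap.inl R M N'
  have hρ : ∀ y, ρ (u y) = y := fun y => by
    have hfy : f (g y) = y := LinearMap.congr_fun hfg y
    have hgy : U (g y) = (u y, 0) := Prod.ext (by simp [U, hfy]) (Subtype.ext (by simp [U, q, hfy]))
    show f (r (u y, 0)) = y
    rw [← hgy, show r (U (g y)) = g y from LinearMap.congr_fun hr (g y), hfy]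
  refine Module.Projective.of_split
    ((LinearMap.range u).liftQ (LinearMap.id - u ∘ₗ ρ) ?_) (LinearMap.range u).mkQ ?_
  · rintro _ ⟨y, rfl⟩
    simp [hρ]
  · apply Submodule.linearMap_qext
    refine LinearMap.ext fun x => ?_
    simp

end GrothLib.CAlgMisc
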