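import Mathlib.RingTheory.ZariskisMainTheorem
import Mathlib.RingTheory.EssentialFiniteness
import Mathlib.RingTheory.HopkinsLevitzki
import Mathlib.RingTheory.SimpleModule.Basic
import Mathlib.RingTheory.FiniteLength
import Mathlib.RingTheory.KrullDimension.Zero

/-!
A local algebra essentially of finite type with finite residue field and zero-dimensional closed
fibre is a localisation of a finite algebra.
-/

universe u

open IsLocalRing

namespace GrothLib.CAlgMisc

variable {R : Type u} [CommRing R]

/-- If the residue field of an artinian local algebra is finite over the base then so is the algebra. -/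
lemma finite_of_isArtinianRing_of_residueField (T : Type u) [CommRing T] [IsLocalRing T]
    [IsArtinianRing T] [Algebra R T] [Module.Finite R (ResidueField T)] : Module.Finite R T := by
  have key : ∀ (M : Type u) [AddCommGroup M] [Module T M], IsFiniteLength T M →
      ∀ [Module R M] [IsScalarTower R T M], Module.Finite R M := by
    intro M _ _ h
    induction h with
    | of_subsingleton => intros; exact inferInstance
    | @of_simple_quotient M _ _ N hs _ ih =>
      intro _ _
      have h1 : Module.Finite R N := ih
      obtain ⟨I, hI, ⟨e⟩⟩ := isSimpleModule_iff_quot_maximal.mp hs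
      have hIm : I = maximalIdeal T := eq_maximalIdeal hI
      subst hIm
      have : Module.Finite R (T ⧸ maximalIdeal T) := ‹Module.Finite R (ResidueField T)›
      have h2 : Module.Finite R (M ⧸ N) := Module.Finite.equiv (e.restrictScalars R).symm
      have : Module.Finite R (N.restrictScalars R) := h1
      have : Module.Finite R (M ⧸ N.restrictScalars R) :=
        Module.Finite.equiv (Submodule.Quotient.restrictScalarsEquiv R N).symm
      exact Module.Finite.of_submodule_quotient (N.restrictScalars R)
  exact key T (isFiniteLength_iff_isNoetherian_isArtinian.mpr ⟨inferInstance, inferInstance⟩)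

theorem exists_finite_isLocalization (R S : Type u) [CommRing R] [CommRing S]
    [IsLocalRing R] [IsLocalRing S] [Algebra R S] [IsLocalHom (algebraMap R S)]
    [Algebra.EssFiniteType R S] [hres : Module.Finite (ResidueField R) (ResidueField S)]
    (hdim : ringKrullDim (S ⧸ (maximalIdeal R).map (algebraMap R S)) = 0) :
    ∃ (S' : Type u) (_ : CommRing S') (_ : Algebra R S') (_ : Algebra S' S) (_ : IsScalarTower R S' S)
      (q : Ideal S') (_ : q.IsPrime), Module.Finite R S' ∧ IsLocalization.AtPrime S q := by
  classical
  let m := maximalIdeal R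
  let J := m.map (algebraMap R S)
  let T := S ⧸ J
  have hJle : J ≤ maximalIdeal S := Ideal.map_le_iff_le_comap.mpr fun x hx => map_nonunit (algebraMap R S) x hx
  have : Nontrivial T := Ideal.Quotient.nontrivial_iff.mpr
    fun h => (maximalIdeal.isMaximal S).ne_top (eq_top_iff.mpr (h ▸ hJle))
  have : IsLocalRing T := .of_surjective' (Ideal.Quotient.mk J) Ideal.Quotient.mk_surjective
  -- `T` is finite over `R`
  have : Algebra.EssFiniteType R T := Algebra.EssFiniteType.comp R S T
  have hNT : IsNoetherianRing T := by
    letI : Algebra (ResidueField R) T := (Ideal.Quotient.lift m (algebraMap R T) fun a ha =>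
      Ideal.Quotient.eq_zero_iff_mem.mpr (Ideal.mem_map_of_mem _ ha)).toAlgebra
    haveI : IsScalarTower R (ResidueField R) T := IsScalarTower.of_algebraMap_eq fun a => rfl
    haveI := Algebra.EssFiniteType.of_comp R (ResidueField R) T
    exact Algebra.EssFiniteType.isNoetherianRing (ResidueField R) T
  have : Ring.KrullDimLE 0 T := Ring.krullDimLE_iff.mpr (by rw [hdim]; simp)
  have : IsArtinianRing T := isArtinianRing_iff_isNoetherianRing_krullDimLE_zero.mpr ⟨hNT, ‹_›⟩
  have : Module.Finite R (ResidueField S) := Module.Finite.trans (ResidueField R) (ResidueField S)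
  have hfac : Function.Surjective (algebraMap S (ResidueField T)) :=
    residue_surjective.comp Ideal.Quotient.mk_surjective
  have : Module.Finite R (ResidueField T) := by
    have hle : ∀ x ∈ maximalIdeal S, algebraMap S (ResidueField T) x = 0 := fun x hx =>
      (residue_eq_zero_iff _).mpr ((mem_maximalIdeal _).mpr fun hu => (mem_maximalIdeal x).mp hx (by
        have : IsLocalHom (Ideal.Quotient.mk J) := IsLocalHom.of_surjective _ Ideal.Quotient.mk_surjective
        exact IsUnit.of_map (Ideal.Quotient.mk J) x hu))
    let g : ResidueField S →ₐ[R] ResidueField T :=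
      Ideal.Quotient.liftₐ (maximalIdeal S) (IsScalarTower.toAlgHom R S (ResidueField T)) hle
    refine Module.Finite.of_surjective g.toLinearMap fun y => ?_
    obtain ⟨x, rfl⟩ := hfac y
    exact ⟨residue S x, rfl⟩
  have hTfin : Module.Finite R T := finite_of_isArtinianRing_of_residueField T
  -- the finite type model
  let B := Algebra.EssFiniteType.subalgebra R S
  let q : Ideal B := (maximalIdeal S).comap (algebraMap B S)
  have hsub : Algebra.EssFiniteType.submonoid R S = q.primeCompl := by
    ext x
    show IsUnit (algebraMap B S x) ↔ algebraMap B S x ∉ maximalIdeal S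
    rw [mem_maximalIdeal, mem_nonunits_iff, not_not]
  have hloc : IsLocalization.AtPrime S q := by
    show IsLocalization q.primeCompl S
    rw [← hsub]
    exact Algebra.EssFiniteType.isLocalization R S
  let e : Localization.AtPrime q ≃ₐ[R] S :=
    (IsLocalization.algEquiv q.primeCompl (Localization.AtPrime q) S).restrictScalars R
  have hunder : q.under R = m := by
    show ((maximalIdeal S).comap (algebraMap B S)).comap (algebraMap R B) = m
    rw [Ideal.comap_comap, ← IsScalarTower.algebraMap_eq]
    exact ((local_hom_TFAE (algebraMap R S)).out 0 4).mp ‹_›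
  have hweak : Algebra.WeaklyQuasiFiniteAt R q := by
    rw [Algebra.weaklyQuasiFiniteAt_iff]
    have : Algebra.QuasiFinite R T := inferInstance
    refine (Algebra.QuasiFinite.iff_of_algEquiv (Ideal.quotientEquivAlg _ J e ?_)).mpr this
    rw [hunder, Ideal.map_map]
    show Ideal.map (algebraMap R S) m = _
    congr 1
    refine RingHom.ext fun a => ?_
    exact (e.commutes a).symm
  obtain ⟨r, hrq, hr, hx⟩ := Algebra.zariskisMainProperty_iff.mp
    (Algebra.ZariskisMainProperty.of_finiteType_of_weaklyQuasiFiniteAt (R := R) q)
  obtain ⟨G, hG⟩ := (inferInstance : Algebra.FiniteType R B)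
  choose n hn using hx
  let t : Set B := insert r ((fun x => r ^ n x * x) '' (G : Set B))
  let S' := Algebra.adjoin R t
  have hS'fin : Module.Finite R S' := ⟨(Submodule.fg_top _).mpr
    (fg_adjoin_of_finite ((G.finite_toSet.image _).insert r)
      (by rintro a (rfl | ⟨x, hx, rfl⟩); exacts [hr, hn _]))⟩
  have hrS : r ∈ S' := Algebra.subset_adjoin (Set.mem_insert _ _)
  have hmove : ∀ b : B, ∃ k, r ^ k * b ∈ S' := by
    intro b
    have hb : b ∈ Algebra.adjoin R (G : Set B) := hG ▸ Algebra.mem_top
    induction hb using Algebra.adjoin_induction with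
    | mem x hx => exact ⟨n x, Algebra.subset_adjoin (Set.mem_insert_of_mem _ ⟨x, hx, rfl⟩)⟩
    | algebraMap a =>
      refine ⟨0, ?_⟩
      rw [pow_zero, one_mul]
      exact S'.algebraMap_mem a
    | add a b _ _ ha hb =>
      obtain ⟨ka, ha⟩ := ha
      obtain ⟨kb, hb⟩ := hb
      refine ⟨ka + kb, ?_⟩
      rw [mul_add]
      refine add_mem ?_ ?_
      · rw [show r ^ (ka + kb) * a = r ^ kb * (r ^ ka * a) by ring]
        exact mul_mem (pow_mem hrS _) ha
      · rw [show r ^ (ka + kb) * b = r ^ ka * (r ^ kb * b) by ring]
        exact mul_mem (pow_mem hrS _) hb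
    | mul a b _ _ ha hb =>
      obtain ⟨ka, ha⟩ := ha
      obtain ⟨kb, hb⟩ := hb
      exact ⟨ka + kb, by rw [show r ^ (ka + kb) * (a * b) = (r ^ ka * a) * (r ^ kb * b) by ring]; exact mul_mem ha hb⟩
  let q' : Ideal S' := q.comap S'.val
  let _ : Algebra S' S := ((algebraMap B S).comp S'.val.toRingHom).toAlgebra
  have htower : IsScalarTower R S' S := IsScalarTower.of_algebraMap_eq fun a => by
    show algebraMap R S a = algebraMap B S (algebraMap R B a)
    exact IsScalarTower.algebraMap_apply R B S a
  refine ⟨S', inferInstance, inferInstance, inferInstance, htower, q', inferInstance, hS'fin, ?_⟩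
  constructor; constructor
  · rintro ⟨y, hy⟩
    exact IsLocalization.map_units S (M := q.primeCompl) ⟨(y : B), hy⟩
  · intro x
    obtain ⟨⟨b, s⟩, hbs⟩ := IsLocalization.surj q.primeCompl x
    obtain ⟨kb, hkb⟩ := hmove b
    obtain ⟨ks, hks⟩ := hmove s
    have hb' : r ^ (kb + ks) * b ∈ S' := by
      rw [show r ^ (kb + ks) * b = r ^ ks * (r ^ kb * b) by ring]
      exact mul_mem (pow_mem hrS _) hkb
    have hs' : r ^ (kb + ks) * (s : B) ∈ S' := by
      rw [show r ^ (kb + ks) * (s : B) = r ^ kb * (r ^ ks * (s : B)) by ring]
      exact mul_mem (pow_mem hrS _) hks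
    refine ⟨⟨⟨_, hb'⟩, ⟨⟨_, hs'⟩, ?_⟩⟩, ?_⟩
    · exact q.primeCompl.mul_mem (pow_mem (show r ∈ q.primeCompl from hrq) _) s.2
    · show x * algebraMap B S (r ^ (kb + ks) * (s : B)) = algebraMap B S (r ^ (kb + ks) * b)
      rw [map_mul, map_mul, mul_left_comm, hbs]
  · intro x y hxy
    obtain ⟨c, hc⟩ := IsLocalization.exists_of_eq (M := q.primeCompl) (S := S)
      (x := (x : B)) (y := (y : B)) hxy
    obtain ⟨k, hk⟩ := hmove c
    refine ⟨⟨⟨_, hk⟩, q.primeCompl.mul_mem (pow_mem (show r ∈ q.primeCompl from hrq) _) c.2⟩, ?_⟩
    refine Subtype.ext ?_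
    show r ^ k * (c : B) * (x : B) = r ^ k * (c : B) * (y : B)
    rw [mul_assoc, mul_assoc, hc]

end GrothLib.CAlgMisc
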